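import Mathlib
import Groth.Agent.H1.FlatDescSub
import Groth.Agent.H99.FibrePropGenR

/-!
# Noetherian approximation of a flat finitely presented ring map (helper58; for S2551)
-/

set_option autoImplicit false
set_option linter.unusedSectionVars false
set_option linter.style.haveILetI false
universe u

open CategoryTheory CategoryTheory.Limits AlgebraicGeometry TensorProduct

namespace Groth.Agent.H58.SkOpen

/-- type-level flat descent to a subring of finite type. -/
theorem exists_finiteType_flat_tensor (Z A : Type u) [CommRing Z] [CommRing A] [Algebra Z A]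
    (B₀ : Type u) [CommRing B₀] [Algebra Z B₀] [Algebra.FinitePresentation Z B₀]
    [Module.Flat A (A ⊗[Z] B₀)] :
    ∃ (C : Type u) (_ : CommRing C) (_ : Algebra Z C) (_ : Algebra C A) (_ : IsScalarTower Z C A),
      Algebra.FiniteType Z C ∧ Module.Flat C (C ⊗[Z] B₀) := by
  obtain ⟨C, hCfg, hC⟩ :=
    Groth.Agent.H1.FlatDescSub.exists_fg_subalgebra_flat_tensor Z A (B₀ := B₀) B₀
  exact ⟨C, inferInstance, inferInstance, inferInstance, inferInstance,
    (Subalgebra.fg_iff_finiteType C).mp hCfg, hC⟩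

/-- **Noetherian approximation of a flat finitely presented algebra**. -/
theorem exists_model_flat (A B : Type u) [CommRing A] [CommRing B] [Algebra A B]
    [Algebra.FinitePresentation A B] [Module.Flat A B] :
    ∃ (C : Type u) (_ : CommRing C) (_ : Algebra C A) (BC : Type u) (_ : CommRing BC)
      (_ : Algebra C BC), Algebra.FiniteType ℤ C ∧
        Algebra.FinitePresentation C BC ∧ Module.Flat C BC ∧
        Nonempty (B ≃ₐ[A] A ⊗[C] BC) := by
  obtain ⟨Z, _, _, BZ, _, _, hZ, hBZ, ⟨e₀⟩⟩ := Groth.Agent.H1.FlatDescSub.exists_model_int A B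
  have hff₀ : Module.Flat A (A ⊗[Z] BZ) :=
    Module.Flat.of_linearEquiv e₀.toLinearEquiv
  obtain ⟨C, _, _, _, _, hft₁, hC⟩ := exists_finiteType_flat_tensor Z A BZ
  have hft : Algebra.FiniteType ℤ C := Algebra.FiniteType.trans (S := Z) hZ hft₁
  exact ⟨C, inferInstance, inferInstance, C ⊗[Z] BZ, inferInstance, inferInstance, hft,
    inferInstance, hC,
    ⟨e₀.symm.trans (Algebra.TensorProduct.cancelBaseChange Z C A A BZ).symm⟩⟩

/-- scheme form. -/
theorem exists_isPullback_flat_noeth {A B : CommRingCat.{u}} (φ : A ⟶ B)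
    (hφ : φ.hom.FinitePresentation) (hfl : φ.hom.Flat) :
    ∃ (A₀ B₀ : CommRingCat.{u}) (φ₀ : A₀ ⟶ B₀) (α : A₀ ⟶ A) (β : B₀ ⟶ B),
      IsNoetherianRing A₀ ∧ φ₀.hom.FinitePresentation ∧ φ₀.hom.Flat ∧
      IsPullback (Spec.map β) (Spec.map φ) (Spec.map φ₀) (Spec.map α) := by
  algebraize [φ.hom]
  obtain ⟨C, _, _, BC, _, _, hft, hfp, hflat, ⟨e⟩⟩ := exists_model_flat A B
  let β : CommRingCat.of BC ⟶ B := CommRingCat.ofHom
      ((e.symm.toRingEquiv.toRingHom).comp Algebra.TensorProduct.includeRight.toRingHom)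
  have hpo : IsPushout (CommRingCat.ofHom (algebraMap C A)) (CommRingCat.ofHom (algebraMap C BC))
      φ β := by
    refine (CommRingCat.isPushout_tensorProduct C A BC).of_iso (Iso.refl _) (Iso.refl _)
      (Iso.refl _) e.symm.toRingEquiv.toCommRingCatIso (by simp) (by simp) ?_ ?_
    · ext a
      simp
      have h1 : (a ⊗ₜ[C] (1 : BC)) = algebraMap A (A ⊗[C] BC) a := rfl
      rw [h1, AlgEquiv.commutes]
      rfl
    · ext b
      simp [β]
  refine ⟨CommRingCat.of C, CommRingCat.of BC, CommRingCat.ofHom (algebraMap C BC),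
    CommRingCat.ofHom (algebraMap C A), β, ?_, ?_, ?_, ?_⟩
  · exact Algebra.FiniteType.isNoetherianRing ℤ C
  · exact RingHom.finitePresentation_algebraMap.mpr hfp
  · exact (RingHom.flat_algebraMap_iff).mpr hflat
  · exact (isPullback_SpecMap_of_isPushout _ _ _ _ hpo).flip

end Groth.Agent.H58.SkOpen
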