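import Groth.Agent.H58.SkOpen.Generize
import Groth.Agent.H58.SkOpen.FlatModel
import Groth.Agent.H99.SkMain

/-!
# The `(S_k)` locus of the fibres of a flat morphism locally of finite presentation is open
(EGA IV 12.1.6 (ii)); helper58, S2551
-/

set_option autoImplicit false
set_option linter.unusedSectionVars false
set_option linter.style.haveILetI false
universe u

open CategoryTheory CategoryTheory.Limits AlgebraicGeometry IsLocalRing Topology
open Groth.Agent.H99.FibLocProp Groth.Agent.H99.SkField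

namespace Groth.Agent.H58.SkOpen

/-- the frozen form of the fibrewise `(S_k)` condition. -/
theorem fibP_hasSkSelf_iff {X S : Scheme.{u}} (f : X ⟶ S) [LocallyOfFiniteType f] (k : ℕ) (x : X) :
    FibP (HasSkSelf k) f x ↔
      LocCoh.HasSk k ((f.fiber (f x)).presheaf.stalk (f.asFiber x))
        ((f.fiber (f x)).presheaf.stalk (f.asFiber x)) := by
  haveI := Groth.Agent.H49.CMChart.isLocallyNoetherian_fiber f (f x)
  constructor
  · intro h
    exact h
  · intro h _
    exact h

/-- Noetherian affine case. -/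
theorem isOpen_fibHasSk_spec {A₀ B₀ : CommRingCat.{u}} (φ₀ : A₀ ⟶ B₀) [IsNoetherianRing A₀]
    (hfp : φ₀.hom.FinitePresentation) (hfl : φ₀.hom.Flat) (k : ℕ) :
    IsOpen {x : Spec B₀ | FibP (HasSkSelf k) (Spec.map φ₀) x} := by
  haveI hlfp : LocallyOfFinitePresentation (Spec.map φ₀) := by
    rw [HasRingHomProperty.Spec_iff (P := @LocallyOfFinitePresentation)]
    exact hfp
  haveI hflat : Flat (Spec.map φ₀) := by
    rw [HasRingHomProperty.Spec_iff (P := @Flat)]
    exact hfl
  haveI hlft : LocallyOfFiniteType (Spec.map φ₀) := inferInstance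
  haveI : IsLocallyNoetherian (Spec B₀) := LocallyOfFiniteType.isLocallyNoetherian (Spec.map φ₀)
  have hlc := Groth.Agent.H99.SkMain.isLocallyConstructible_fibHasSk (Spec.map φ₀) k
  have hset : {x : Spec B₀ | FibP (HasSkSelf k) (Spec.map φ₀) x} =
      {x : Spec B₀ | LocCoh.HasSk k
        (((Spec.map φ₀).fiber ((Spec.map φ₀) x)).presheaf.stalk ((Spec.map φ₀).asFiber x))
        (((Spec.map φ₀).fiber ((Spec.map φ₀) x)).presheaf.stalk ((Spec.map φ₀).asFiber x))} := by
    ext x
    exact fibP_hasSkSelf_iff (Spec.map φ₀) k x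
  rw [hset]
  have hc : IsConstructible _ := hlc.isConstructible
  refine PrimeSpectrum.isOpen_of_stableUnderGeneralization_of_isConstructible (R := B₀) ?_ hc
  intro x x' hsp hx
  rw [← hset] at hx ⊢
  exact @fibP_hasSk_generizes_noeth _ _ (Spec.map φ₀) _ _ _ k x x' hsp @hx

/-- affine source and target. -/
theorem isOpen_fibHasSk_of_isAffine {X S : Scheme.{u}} (f : X ⟶ S) [IsAffine X] [IsAffine S]
    [Flat f] [LocallyOfFinitePresentation f] (k : ℕ) :
    IsOpen {x : X | FibP (HasSkSelf k) f x} := by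
  have hP := isLocProp_hasSkSelf.{u} k
  have hφ : f.appTop.hom.FinitePresentation :=
    (HasRingHomProperty.iff_of_isAffine (P := @LocallyOfFinitePresentation)).mp inferInstance
  have hfl : f.appTop.hom.Flat :=
    (HasRingHomProperty.iff_of_isAffine (P := @Flat)).mp inferInstance
  obtain ⟨A₀, B₀, φ₀, α, β, hN, hfp, hflat, hpb⟩ := exists_isPullback_flat_noeth f.appTop hφ hfl
  have hsq : IsPullback X.isoSpec.hom f (Spec.map f.appTop) S.isoSpec.hom :=
    IsPullback.of_horiz_isIso ⟨Scheme.isoSpec_hom_naturality f⟩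
  have hpb' := hsq.paste_horiz hpb
  haveI hft : LocallyOfFiniteType (Spec.map φ₀) := by
    rw [HasRingHomProperty.Spec_iff (P := @LocallyOfFiniteType)]
    exact RingHom.FiniteType.of_finitePresentation hfp
  have hopen := isOpen_fibHasSk_spec φ₀ hfp hflat k
  have hE : {x : X | FibP (HasSkSelf k) f x} =
      (X.isoSpec.hom ≫ Spec.map β) ⁻¹' {x | FibP (HasSkSelf k) (Spec.map φ₀) x} := by
    ext x
    exact fibP_baseChange hP (Spec.map φ₀) f _ _ hpb' x
  rw [hE]
  exact hopen.preimage (X.isoSpec.hom ≫ Spec.map β).continuous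

/-- **EGA IV 12.1.6**: the `(S_k)` locus of the fibres of a flat morphism locally of finite
presentation is open. -/
theorem isOpen_fibHasSk {X S : Scheme.{u}} (f : X ⟶ S) [Flat f] [LocallyOfFinitePresentation f]
    (k : ℕ) : IsOpen {x : X | FibP (HasSkSelf k) f x} := by
  have hP := isLocProp_hasSkSelf.{u} k
  rw [isOpen_iff_forall_mem_open]
  intro x hx
  obtain ⟨V, hV, hxV⟩ : ∃ V : S.Opens, IsAffineOpen V ∧ f x ∈ V := by
    obtain ⟨_, ⟨V, hV, rfl⟩, hxV, -⟩ := S.isBasis_affineOpens.exists_subset_of_mem_open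
      (Set.mem_univ (f x)) isOpen_univ
    exact ⟨V, hV, hxV⟩
  obtain ⟨U, hU, hxU, hUV⟩ : ∃ U : X.Opens, IsAffineOpen U ∧ x ∈ U ∧ U ≤ f ⁻¹ᵁ V := by
    obtain ⟨_, ⟨U, hU, rfl⟩, hxU, hUV⟩ := X.isBasis_affineOpens.exists_subset_of_mem_open
      (show x ∈ ((f ⁻¹ᵁ V : X.Opens) : Set X) from hxV) (f ⁻¹ᵁ V).isOpen
    exact ⟨U, hU, hxU, hUV⟩
  haveI : IsAffine (U : Scheme.{u}) := hU
  haveI : IsAffine (V : Scheme.{u}) := hV
  haveI : Flat (f.resLE V U hUV) := inferInstance
  have hopen := isOpen_fibHasSk_of_isAffine (f.resLE V U hUV) k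
  have hlft : LocallyOfFiniteType f := inferInstance
  have hpbV : IsPullback (𝟙 (U : Scheme.{u})) (f.resLE V U hUV) (f.resLE V U hUV ≫ V.ι) V.ι :=
    IsPullback.of_horiz_isIso_mono ⟨by simp⟩
  haveI hlft' : LocallyOfFiniteType (f.resLE V U hUV ≫ V.ι) := inferInstance
  have hE : {u : (U : Scheme.{u}) | FibP (HasSkSelf k) (f.resLE V U hUV) u} =
      {u : (U : Scheme.{u}) | FibP (HasSkSelf k) f (U.ι u)} := by
    ext u
    simp only [Set.mem_ofPred_eq]
    rw [fibP_baseChange hP _ _ _ _ hpbV u, Scheme.Hom.resLE_comp_ι]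
    exact fibP_openImm hP U.ι f u
  rw [hE] at hopen
  refine ⟨U.ι '' {u : (U : Scheme.{u}) | FibP (HasSkSelf k) f (U.ι u)}, ?_,
    U.ι.isOpenEmbedding.isOpenMap _ hopen, ⟨⟨x, hxU⟩, @hx, rfl⟩⟩
  rintro _ ⟨u, hu, rfl⟩
  exact hu

/-- the frozen statement S2551. -/
theorem main2551 {X Y : Scheme.{u}} (f : X ⟶ Y) [Flat f] [LocallyOfFinitePresentation f] (k : ℕ) :
    IsOpen {x : X | LocCoh.HasSk k ((f.fiber (f.base x)).presheaf.stalk (f.asFiber x))
      ((f.fiber (f.base x)).presheaf.stalk (f.asFiber x))} := by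
  have h := isOpen_fibHasSk f k
  have hset : {x : X | FibP (HasSkSelf k) f x} =
      {x : X | LocCoh.HasSk k ((f.fiber (f.base x)).presheaf.stalk (f.asFiber x))
        ((f.fiber (f.base x)).presheaf.stalk (f.asFiber x))} := by
    ext x
    exact fibP_hasSkSelf_iff f k x
  rw [← hset]
  exact h

end Groth.Agent.H58.SkOpen
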