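import Groth.Agent.H58.SkOpen.RkDVR
import Groth.Agent.H58.SkOpen.Open
import Groth.Agent.H99.NormFib
import Groth.Agent.S0386

/-!
# Openness of the loci of geometrically reduced / geometrically normal fibres
(EGA IV 12.1.6 (iv)-(vi), 12.2.4; helper58; S2549, S4963, S0435)

The pointwise property `RkSk k f x := PrRk k f x ∧ (S_{k+1})` of the fibre of `f` through `x` is
locally constructible (helper99), stable under base change, and generizes over DVRs
(`prRk_generizes_over_dvr`).  Hence it is open for flat morphisms locally of finite presentation.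
`k = 0` is geometric reducedness, `k = 1` geometric normality.
-/

set_option autoImplicit false
set_option backward.isDefEq.respectTransparency.types false
set_option linter.unusedSectionVars false
set_option linter.style.haveILetI false
universe u

open CategoryTheory CategoryTheory.Limits AlgebraicGeometry IsLocalRing Topology
open Groth.Agent.H99.RkTop Groth.Agent.H99.RkMain Groth.Agent.H99.FibLocProp
  Groth.Agent.H99.SkField Groth.Agent.H99.SkMain

namespace Groth.Agent.H58.SkOpen

/-- geometric `(R_k)` and `(S_{k+1})` for the fibre through a point. -/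
def RkSk (k : ℕ) : ∀ ⦃X S : Scheme.{u}⦄, (X ⟶ S) → X → Prop := fun _ _ f x =>
  PrRk k f x ∧ FibP (HasSkSelf (k + 1)) f x

theorem isStableQ_prRk (k : ℕ) : IsStableQ (PrRk.{u} k) :=
  ⟨(isGoodGen_prRk k).baseChange, (isGoodGen_prRk k).openImm⟩

theorem isStableQ_rkSk (k : ℕ) : IsStableQ (RkSk.{u} k) :=
  (isStableQ_prRk k).and (isStableQ_fibP (isLocProp_hasSkSelf (k + 1)))

theorem dvrStep_rkSk (k : ℕ) : DVRStep (RkSk.{u} k) := by
  intro V _ _ _ Z g _ _ z z' h hz hz' hQ
  exact ⟨prRk_generizes_over_dvr V g k z z' h hz hz' hQ.1 hQ.2,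
    fibP_hasSk_generizes_over_dvr V g (k + 1) z z' h hz hz' hQ.2⟩

theorem rkSk_iff (k : ℕ) {X S : Scheme.{u}} (f : X ⟶ S) [LocallyOfFiniteType f] (x : X) :
    RkSk k f x ↔ (PrRk k f x ∧ LocCoh.HasSk (k + 1) ((f.fiber (f x)).presheaf.stalk (f.asFiber x))
      ((f.fiber (f x)).presheaf.stalk (f.asFiber x))) :=
  and_congr Iff.rfl (fibP_hasSkSelf_iff f (k + 1) x)

theorem isLocallyConstructible_rkSk (k : ℕ) {X S : Scheme.{u}} (f : X ⟶ S)
    [LocallyOfFinitePresentation f] : IsLocallyConstructible {x : X | RkSk k f x} := by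
  haveI : LocallyOfFiniteType f := inferInstance
  have h := (isLocallyConstructible_prRk f k).inter (isLocallyConstructible_fibHasSk f (k + 1))
  convert h using 1
  ext x
  exact rkSk_iff k f x

/-- **Openness** of the `RkSk k` locus for flat morphisms locally of finite presentation. -/
theorem isOpen_rkSk (k : ℕ) {X S : Scheme.{u}} (f : X ⟶ S) [Flat f]
    [LocallyOfFinitePresentation f] : IsOpen {x : X | RkSk k f x} :=
  isOpen_q (isStableQ_rkSk k) (dvrStep_rkSk k)
    (fun _ _ g hg => by haveI := hg; exact isLocallyConstructible_rkSk k g) f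

theorem isOpen_flat_and_rkSk (k : ℕ) {X S : Scheme.{u}} (f : X ⟶ S)
    [LocallyOfFinitePresentation f] :
    IsOpen {x : X | (f.stalkMap x).hom.Flat ∧ RkSk k f x} :=
  isOpen_flat_and_q (isStableQ_rkSk k) (dvrStep_rkSk k)
    (fun _ _ g hg => by haveI := hg; exact isLocallyConstructible_rkSk k g)
    (fun _ _ g hg => by haveI := hg; exact Groth.Agent.S0386.result g) f

/-! ### geometric reducedness -/

theorem geomReducedAt_iff_rkSk {X Y : Scheme.{u}} (f : X ⟶ Y) [LocallyOfFiniteType f] (x : X) :
    FBase.IsGeomReducedAt (f.fiberToSpecResidueField (f.base x)) (f.asFiber x) ↔ RkSk 0 f x := by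
  rw [rkSk_iff]
  exact Groth.Agent.H99.RedFib.geomReduced_iff f x

/-- S2549 -/
theorem main2549 {X Y : Scheme.{u}} (f : X ⟶ Y) [Flat f] [LocallyOfFinitePresentation f] :
    IsOpen {x : X | FBase.IsGeomReducedAt (f.fiberToSpecResidueField (f.base x))
      (f.asFiber x)} := by
  haveI : LocallyOfFiniteType f := inferInstance
  have h := isOpen_rkSk 0 f
  convert h using 1
  ext x
  exact geomReducedAt_iff_rkSk f x

/-- S4963 -/
theorem main4963 {X Y : Scheme.{u}} (f : X ⟶ Y) [LocallyOfFinitePresentation f] :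
    IsOpen {x : X | (f.stalkMap x).hom.Flat ∧
      FBase.IsGeomReducedAt (f.fiberToSpecResidueField (f.base x)) (f.asFiber x)} := by
  haveI : LocallyOfFiniteType f := inferInstance
  have h := isOpen_flat_and_rkSk 0 f
  convert h using 1
  ext x
  exact and_congr Iff.rfl (geomReducedAt_iff_rkSk f x)

/-- S0435 -/
theorem main0435 {X Y : Scheme.{u}} (f : X ⟶ Y) [Flat f] [IsProper f]
    [LocallyOfFinitePresentation f] :
    IsOpen {y : Y | GeometricallyReduced (f.fiberToSpecResidueField y)} := by
  haveI : LocallyOfFiniteType f := inferInstance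
  have hopen : IsOpen {x : X | RkSk 0 f x} := isOpen_rkSk 0 f
  have hcl : IsClosed (f '' {x : X | RkSk 0 f x}ᶜ) :=
    f.isClosedMap _ hopen.isClosed_compl
  have hE : {y : Y | GeometricallyReduced (f.fiberToSpecResidueField y)} =
      (f '' {x : X | RkSk 0 f x}ᶜ)ᶜ := by
    ext y
    rw [Set.mem_ofPred_eq, Groth.Agent.H99.RedFib.geometricallyReduced_fibre_iff f y]
    simp only [Set.mem_compl_iff, Set.mem_image, Set.mem_ofPred_eq, not_exists, not_and]
    constructor
    · intro h x hx hfx
      exact hx ((rkSk_iff 0 f x).mpr (h x hfx))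
    · intro h x hfx
      by_contra hn
      exact h x (fun hx => hn ((rkSk_iff 0 f x).mp hx)) hfx
  rw [hE]
  exact hcl.isOpen_compl

end Groth.Agent.H58.SkOpen
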