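import Groth.Agent.H58.SkOpen.DVRStep

/-!
# `(S_k)` of the fibres generizes over the spectrum of a DVR (helper58; for S2551)
-/

set_option autoImplicit false
set_option linter.unusedSectionVars false
set_option linter.style.haveILetI false
universe u

open CategoryTheory CategoryTheory.Limits AlgebraicGeometry IsLocalRing
open Groth.Agent.H99.FibLocProp Groth.Agent.H99.SkField Groth.Agent.H49.FibreStalk
  Groth.Agent.H15.StalkLoc

namespace Groth.Agent.H58.SkOpen

/-- over a DVR: from the closed fibre to the generic fibre. -/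
theorem fibP_hasSk_generizes_over_dvr (V : Type u) [CommRing V] [IsDomain V]
    [IsDiscreteValuationRing V] {Z : Scheme.{u}} (g : Z ⟶ Spec (CommRingCat.of V)) [Flat g]
    [LocallyOfFiniteType g] (k : ℕ) (z z' : Z) (h : z' ⤳ z)
    (hz : (g z).asIdeal = maximalIdeal V) (hz' : (g z').asIdeal = ⊥)
    (hS : FibP (HasSkSelf k) g z) : FibP (HasSkSelf k) g z' := by
  haveI : IsLocallyNoetherian Z := LocallyOfFiniteType.isLocallyNoetherian g
  obtain ⟨ϖ, hϖ⟩ := IsDiscreteValuationRing.exists_irreducible V
  have hmax : maximalIdeal V = Ideal.span {ϖ} := hϖ.maximalIdeal_eq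
  -- the stalk at `g z`
  letI a1 : Algebra V ((Spec (CommRingCat.of V)).presheaf.stalk (g z)) :=
    StructureSheaf.stalkAlgebra V (g z)
  haveI l1 : IsLocalization.AtPrime ((Spec (CommRingCat.of V)).presheaf.stalk (g z))
      (g z).asIdeal := StructureSheaf.IsLocalization.to_stalk V (g z)
  letI a2 : Algebra V ((Spec (CommRingCat.of V)).presheaf.stalk (g z')) :=
    StructureSheaf.stalkAlgebra V (g z')
  haveI l2 : IsLocalization.AtPrime ((Spec (CommRingCat.of V)).presheaf.stalk (g z'))
      (g z').asIdeal := StructureSheaf.IsLocalization.to_stalk V (g z')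
  refine @fibP_hasSk_generizes Z _ g _ k z z' h (Flat.stalkMap g z)
    (algebraMap V ((Spec (CommRingCat.of V)).presheaf.stalk (g z)) ϖ) ?_ ?_ ?_ ?_ hS
  · rw [← IsLocalization.AtPrime.map_eq_maximalIdeal (g z).asIdeal
      ((Spec (CommRingCat.of V)).presheaf.stalk (g z)), hz, hmax, Ideal.map_span,
      Set.image_singleton]
  · haveI : Module.Flat V ((Spec (CommRingCat.of V)).presheaf.stalk (g z)) :=
      IsLocalization.flat _ (g z).asIdeal.primeCompl
    have hreg : IsSMulRegular V ϖ := (isRegular_of_ne_zero hϖ.ne_zero).left.isSMulRegular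
    exact hreg.of_flat
  · have h1 : ((Spec (CommRingCat.of V)).presheaf.stalkSpecializes
        (g.base.hom.map_specializes h)).hom
        (algebraMap V ((Spec (CommRingCat.of V)).presheaf.stalk (g z)) ϖ) =
        algebraMap V ((Spec (CommRingCat.of V)).presheaf.stalk (g z')) ϖ := by
      have := StructureSheaf.toStalk_stalkSpecializes (R := V) (g.base.hom.map_specializes h)
      exact congr($(this).hom ϖ)
    rw [h1]
    refine IsLocalization.map_units ((Spec (CommRingCat.of V)).presheaf.stalk (g z'))
      (⟨ϖ, ?_⟩ : (g z').asIdeal.primeCompl)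
    rw [Ideal.mem_primeCompl_iff, hz']
    exact fun h0 => hϖ.ne_zero (by simpa using h0)
  · rw [← IsLocalization.AtPrime.map_eq_maximalIdeal (g z').asIdeal
      ((Spec (CommRingCat.of V)).presheaf.stalk (g z')), hz', Ideal.map_bot]

end Groth.Agent.H58.SkOpen
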