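import Groth.Agent.H58.SkOpen.AlgLocal
import Groth.Agent.H58.X72.DepthCM

/-!
# Heights of primes away from a regular element under `(S_n)` of the quotient (helper58)

`C` Noetherian, `t` a nonzerodivisor, `C/tC` satisfies `(S_n)`.  If `Q ∌ t` is a prime, `Q₁` is
minimal over `Q + tC` and `ht Q₁ ≥ n + 1`, then `ht Q ≥ n`.
-/

set_option autoImplicit false
set_option linter.unusedSectionVars false
set_option linter.style.haveILetI false
universe u

open IsLocalRing Groth.Agent.H58.GenDepth Groth.Agent.H29.SkAt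

namespace Groth.Agent.H58.SkOpen

variable {C : Type u} [CommRing C] [IsNoetherianRing C]

/-- the depth comparison used in `skCond_of_quot`. -/
theorem dep_quot_le_dep (t : C) (hreg : IsSMulRegular C t) (Q Q₁ : Ideal C) [Q.IsPrime]
    [Q₁.IsPrime] (hmin : Q₁ ∈ (Q ⊔ Ideal.span {t}).minimalPrimes) :
    dep (QuotSMulTop t C) Q₁ ≤ dep C Q := by
  have hQQ₁ : Q ≤ Q₁ := le_sup_left.trans hmin.1.2
  have htQ₁ : t ∈ Q₁ := hmin.1.2 (le_sup_right (a := Q) (Ideal.subset_span rfl))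
  have h1 : dep (QuotSMulTop t C) Q₁ + 1 = dep C Q₁ :=
    dep_quot_add_one C Q₁ t htQ₁ (isSMulRegular_localized C Q₁ t hreg)
  have h3 : dep C Q₁ ≤ dep C Q + 1 := by
    have := Groth.Agent.H58.X72.DepthLocIneq.depth_localization_le C Q Q₁ hQQ₁
    refine this.trans (add_le_add le_rfl ?_)
    exact height_map_mk_le_one t Q Q₁ hmin
  have : dep (QuotSMulTop t C) Q₁ + 1 ≤ dep C Q + 1 := h1.le.trans h3
  exact (ENat.add_le_add_iff_right ENat.one_ne_top).mp this

theorem nontrivial_localizedModule_self (Q : Ideal C) [Q.IsPrime] :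
    Nontrivial (LocalizedModule Q.primeCompl C) :=
  (selfEquiv C Q.primeCompl).symm.toEquiv.nontrivial

/-- `depth C_Q ≤ ht Q`. -/
theorem dep_self_le_height (Q : Ideal C) [Q.IsPrime] : dep C Q ≤ Q.height := by
  haveI := nontrivial_localizedModule_self Q
  have h := Groth.Agent.H58.X72.DepthCM.depth_le_supportDim (A := Localization.AtPrime Q)
    (LocalizedModule Q.primeCompl C)
  have h2 : dm C Q = ((Q.height : ℕ∞) : WithBot ℕ∞) := dm_self Q
  change ((dep C Q : ℕ∞) : WithBot ℕ∞) ≤ dm C Q at h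
  rw [h2] at h
  exact WithBot.coe_le_coe.mp h

/-- **Height step.** -/
theorem height_ge_of_quot (n : ℕ) (t : C) (hreg : IsSMulRegular C t) (Q Q₁ : Ideal C) [Q.IsPrime]
    [Q₁.IsPrime] (hmin : Q₁ ∈ (Q ⊔ Ideal.span {t}).minimalPrimes)
    (hS : LocCoh.HasSk n (C ⧸ Ideal.span {t}) (C ⧸ Ideal.span {t}))
    (hdim : ((n + 1 : ℕ) : ℕ∞) ≤ Q₁.height) : ((n : ℕ) : ℕ∞) ≤ Q.height := by
  have htQ₁ : t ∈ Q₁ := hmin.1.2 (le_sup_right (a := Q) (Ideal.subset_span rfl))
  have hSk : SkCond n C (QuotSMulTop t C) Q₁ := skCond_quot_of_hasSk n t hS Q₁ htQ₁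
  have h1 : dm (QuotSMulTop t C) Q₁ + 1 = dm C Q₁ :=
    dm_quot_add_one C Q₁ t htQ₁ (isSMulRegular_localized C Q₁ t hreg)
  rw [dm_self] at h1
  have hdm : ((n : ℕ) : WithBot ℕ∞) ≤ dm (QuotSMulTop t C) Q₁ := by
    generalize dm (QuotSMulTop t C) Q₁ = e at h1 ⊢
    induction e using WithBot.recBotCoe with
    | bot => simp at h1
    | coe e =>
      have h6 : ((e + 1 : ℕ∞) : WithBot ℕ∞) = ((Q₁.height : ℕ∞) : WithBot ℕ∞) := by
        push_cast; exact h1
      have h7 : e + 1 = Q₁.height := WithBot.coe_injective h6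
      rw [← h7] at hdim
      have h8 : ((n : ℕ) : ℕ∞) + 1 ≤ e + 1 := by exact_mod_cast hdim
      have h9 : ((n : ℕ) : ℕ∞) ≤ e := (ENat.add_le_add_iff_right ENat.one_ne_top).mp h8
      exact_mod_cast h9
  unfold SkCond at hSk
  have h2 : ((n : ℕ) : WithBot ℕ∞) ≤ ((dep (QuotSMulTop t C) Q₁ : ℕ∞) : WithBot ℕ∞) := by
    refine le_trans ?_ hSk
    exact le_min le_rfl hdm
  have h3 : ((n : ℕ) : ℕ∞) ≤ dep (QuotSMulTop t C) Q₁ := by exact_mod_cast h2
  exact h3.trans ((dep_quot_le_dep t hreg Q Q₁ hmin).trans (dep_self_le_height Q))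

end Groth.Agent.H58.SkOpen
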