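import Mathlib
import Groth.Agent.H99.RkMain
import Groth.Agent.H15.StalkLoc

/-!
# The geometric `(R_k)` condition in terms of dimensions of local rings of fibres (helper58)

* `specializes_of_genPrime_le`: for generizations `ξ, ζ` of `z`, `𝔭_ξ ≤ 𝔭_ζ` implies `ξ ⤳ ζ`.
* `exists_fdim_iff`: `∃ w ⤳ ξ` in the fibre with `fdim ξ + n ≤ fdim w` iff `n ≤ dim O_{X_{g ξ}, ξ}`.
* `prRk_iff_dim`: helper99's `PrRk k g x` iff every non-smooth fibrewise generization `ξ` of `x`
  has `k + 1 ≤ dim O_{X_{g ξ}, ξ}`.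
-/

set_option autoImplicit false
set_option backward.isDefEq.respectTransparency.types false
set_option linter.unusedSectionVars false
set_option linter.style.haveILetI false
universe u

open CategoryTheory CategoryTheory.Limits AlgebraicGeometry IsLocalRing Topology
open Groth.Agent.H15.StalkLoc Groth.Agent.H99.RkTop Groth.Agent.H99.RkField
  Groth.Agent.H99.FieldDim Groth.Agent.H49.SmoothFibreConstr

namespace Groth.Agent.H58.SkOpen

/-- for generizations `ξ, ζ` of `z`: `𝔭_ξ ≤ 𝔭_ζ` implies `ξ ⤳ ζ`. -/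
theorem specializes_of_genPrime_le {X : Scheme.{u}} {z ξ ζ : X} (h₁ : ξ ⤳ z) (h₂ : ζ ⤳ z)
    (hle : genPrime h₁ ≤ genPrime h₂) : ξ ⤳ ζ := by
  obtain ⟨_, ⟨U, hU, rfl⟩, hzU, -⟩ :=
    X.isBasis_affineOpens.exists_subset_of_mem_open (Set.mem_univ z) isOpen_univ
  have hξU : ξ ∈ U := h₁.mem_open U.isOpen hzU
  have hζU : ζ ∈ U := h₂.mem_open U.isOpen hzU
  rw [specializes_iff_forall_open]
  intro W hW hζW
  obtain ⟨r, hr1, hr2⟩ := IsAffineOpen.exists_basicOpen_le hU (V := ⟨W, hW⟩) ⟨ζ, hζW⟩ hζU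
  apply hr1
  rw [Scheme.mem_basicOpen _ r ξ hξU]
  rw [Scheme.mem_basicOpen _ r ζ hζU] at hr2
  have e₁ : (X.presheaf.stalkSpecializes h₁).hom (X.presheaf.germ U z hzU r) =
      X.presheaf.germ U ξ hξU r := by
    rw [← CommRingCat.comp_apply, X.presheaf.germ_stalkSpecializes]
  have e₂ : (X.presheaf.stalkSpecializes h₂).hom (X.presheaf.germ U z hzU r) =
      X.presheaf.germ U ζ hζU r := by
    rw [← CommRingCat.comp_apply, X.presheaf.germ_stalkSpecializes]
  by_contra hnu
  have h3 : X.presheaf.germ U z hzU r ∈ genPrime h₁ := by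
    rw [mem_genPrime_iff, e₁]; exact hnu
  have h4 := hle h3
  rw [mem_genPrime_iff, e₂] at h4
  exact h4 hr2

section Field

variable {K : Type u} [Field K] {Y : Scheme.{u}} (p : Y ⟶ Spec (CommRingCat.of K))
  [LocallyOfFiniteType p]

theorem field_exists_iff (y : Y) (n : ℕ) :
    (∃ w : Y, w ⤳ y ∧ fdim p y + ((n : ℕ) : WithBot ℕ∞) ≤ fdim p w) ↔
      ((n : ℕ) : WithBot ℕ∞) ≤ ringKrullDim (Y.presheaf.stalk y) := by
  haveI : IsLocallyNoetherian Y := isLocallyNoetherian p
  haveI : JacobsonSpace Y := jacobsonSpace p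
  constructor
  · rintro ⟨w, hw, hle⟩
    rw [fdim_eq, fdim_eq] at hle
    have hdown := le_ringKrullDim_of_specializes (delta p) (isDimFun p) y w hw
    have h1 : (delta p y).toNat + n ≤ (delta p w).toNat := by exact_mod_cast hle
    have h0 := delta_nonneg' p y
    have h2 : n ≤ (delta p w - delta p y).toNat := by omega
    refine le_trans ?_ hdown
    exact_mod_cast h2
  · intro h
    obtain ⟨w, hw, hle⟩ := exists_gen_ringKrullDim_le (delta p) (isDimFun p) y
    refine ⟨w, hw, ?_⟩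
    rw [fdim_eq, fdim_eq]
    have h1 : ((n : ℕ) : WithBot ℕ∞) ≤ (((delta p w - delta p y).toNat : ℕ∞) : WithBot ℕ∞) :=
      h.trans hle
    have h2 : n ≤ (delta p w - delta p y).toNat := by exact_mod_cast h1
    have h0 := delta_nonneg' p y
    have hm := fdim_mono p hw (Subsingleton.elim _ _)
    rw [fdim_eq, fdim_eq] at hm
    have hm' : (delta p y).toNat ≤ (delta p w).toNat := by exact_mod_cast hm
    have h3 : (delta p y).toNat + n ≤ (delta p w).toNat := by omega
    exact_mod_cast h3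

end Field

/-- the existence of a fibrewise generization of relative dimension `≥ n` over `ξ` is the
inequality `n ≤ dim O_{X_{g ξ}, ξ}`. -/
theorem exists_fdim_iff {Z T : Scheme.{u}} (g : Z ⟶ T) [LocallyOfFiniteType g] (ξ : Z) (n : ℕ) :
    (∃ w : Z, w ⤳ ξ ∧ g w = g ξ ∧ fdim g ξ + ((n : ℕ) : WithBot ℕ∞) ≤ fdim g w) ↔
      ((n : ℕ) : WithBot ℕ∞) ≤
        ringKrullDim ((g.fiber (g ξ)).presheaf.stalk (g.asFiber ξ)) := by
  let κ := IsLocalRing.ResidueField (T.presheaf.stalk (g.base ξ))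
  let q : g.fiber (g.base ξ) ⟶ Spec (CommRingCat.of κ) := g.fiberToSpecResidueField (g.base ξ)
  haveI : LocallyOfFiniteType q :=
    inferInstanceAs (LocallyOfFiniteType (pullback.snd g (T.fromSpecResidueField (g.base ξ))))
  have sq : IsPullback (g.fiberι (g.base ξ)) q g (T.fromSpecResidueField (g.base ξ)) :=
    IsPullback.of_hasPullback _ _
  have hιy : (g.fiberι (g.base ξ)) (g.asFiber ξ) = ξ := Scheme.Hom.fiberι_asFiber g ξ
  have hinj : Function.Injective (g.fiberι (g.base ξ)) := (g.fiberι _).isEmbedding.injective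
  have hfd : ∀ t : g.fiber (g.base ξ), fdim q t = fdim g ((g.fiberι (g.base ξ)) t) := by
    intro t
    obtain ⟨t', -, -, h3, h4⟩ := exists_lift_fdim g q (g.fiberι (g.base ξ)) _ sq t
      ((g.fiberι (g.base ξ)) t) specializes_rfl rfl
    rw [← h4, hinj h3]
  rw [← field_exists_iff q (g.asFiber ξ) n]
  constructor
  · rintro ⟨w, hw, hgw, hle⟩
    obtain ⟨w', h1, -, h3, h4⟩ := exists_lift_fdim g q (g.fiberι (g.base ξ)) _ sq (g.asFiber ξ) w
      (by rw [hιy]; exact hw) (by rw [hιy]; exact hgw)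
    refine ⟨w', h1, ?_⟩
    rw [hfd (g.asFiber ξ), hιy, h4]
    exact hle
  · rintro ⟨w', hw', hle⟩
    refine ⟨(g.fiberι (g.base ξ)) w', ?_, ?_, ?_⟩
    · have := hw'.map (g.fiberι (g.base ξ)).continuous
      rwa [hιy] at this
    · exact Groth.Agent.H48.CycFib.map_fiberι g _ w'
    · rw [← hfd w']
      have := hfd (g.asFiber ξ)
      rw [hιy] at this
      rw [← this]
      exact hle

/-- `PrRk k g x` in terms of the dimensions of the local rings of the fibre. -/
theorem prRk_iff_dim (k : ℕ) {Z T : Scheme.{u}} (g : Z ⟶ T) [LocallyOfFiniteType g] (x : Z) :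
    PrRk k g x ↔ ∀ ξ : Z, ξ ⤳ x → g ξ = g x → ¬ FibSm g ξ →
      (((k + 1 : ℕ)) : WithBot ℕ∞) ≤
        ringKrullDim ((g.fiber (g ξ)).presheaf.stalk (g.asFiber ξ)) := by
  unfold PrRk
  refine forall_congr' fun ξ => forall_congr' fun _ => forall_congr' fun _ =>
    forall_congr' fun _ => ?_
  exact exists_fdim_iff g ξ (k + 1)

end Groth.Agent.H58.SkOpen
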