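import Groth.Agent.H58.SkOpen.GenQ
import Groth.Agent.H58.SkOpen.RkPoint
import Groth.Agent.H58.SkOpen.RkAlg
import Groth.Agent.H58.SkOpen.DVRSpec
import Groth.Agent.H99.RedFib

/-!
# Generization of the geometric `(R_k)` condition together with `(S_{k+1})` over a DVR (helper58)

`g : Z ⟶ Spec V` flat and locally of finite type over a discrete valuation ring, `z' ⤳ z` with `z`
in the closed fibre and `z'` in the generic fibre.  If the closed fibre satisfies the geometric
`(R_k)` condition (`PrRk k g z`) and `(S_{k+1})` at `z`, then so does the generic fibre at `z'`.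
-/

set_option autoImplicit false
set_option backward.isDefEq.respectTransparency.types false
set_option linter.unusedSectionVars false
set_option linter.style.haveILetI false
universe u

open CategoryTheory CategoryTheory.Limits AlgebraicGeometry IsLocalRing Topology
open Groth.Agent.H15.StalkLoc Groth.Agent.H99.RkTop Groth.Agent.H99.RkField
  Groth.Agent.H99.RkGen Groth.Agent.H49.SmoothFibreConstr Groth.Agent.H49.FibreStalk
  Groth.Agent.H99.FibLocProp Groth.Agent.H99.SkField

namespace Groth.Agent.H58.SkOpen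

section DVR

variable (V : Type u) [CommRing V] [IsDomain V] [IsDiscreteValuationRing V] {Z : Scheme.{u}}
  (g : Z ⟶ Spec (CommRingCat.of V))

/-- the canonical map `V → O_{Spec V, g a}`. -/
noncomputable def toSt (a : Z) : V →+* (Spec (CommRingCat.of V)).presheaf.stalk (g a) :=
  letI a1 : Algebra V ((Spec (CommRingCat.of V)).presheaf.stalk (g a)) :=
    StructureSheaf.stalkAlgebra V (g a)
  algebraMap V ((Spec (CommRingCat.of V)).presheaf.stalk (g a))

/-- the canonical map `V → O_{Z,a}`. -/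
noncomputable def rho (a : Z) : V →+* Z.presheaf.stalk a :=
  (g.stalkMap a).hom.comp (toSt V g a)

theorem rho_apply (a : Z) (v : V) :
    rho V g a v = (g.stalkMap a).hom (toSt V g a v) := rfl

theorem stalkSpecializes_toSt {a a' : Z} (h : a' ⤳ a) (v : V) :
    ((Spec (CommRingCat.of V)).presheaf.stalkSpecializes (g.base.hom.map_specializes h)).hom
      (toSt V g a v) = toSt V g a' v := by
  have := StructureSheaf.toStalk_stalkSpecializes (R := V) (g.base.hom.map_specializes h)
  exact congr($(this).hom v)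

theorem stalkSpecializes_rho {a a' : Z} (h : a' ⤳ a) (v : V) :
    (Z.presheaf.stalkSpecializes h).hom (rho V g a v) = rho V g a' v := by
  rw [rho_apply, rho_apply]
  have h2 := (Scheme.Hom.stalkSpecializes_stalkMap_apply g a' a h (toSt V g a v)).symm
  refine h2.trans ?_
  exact congrArg _ (stalkSpecializes_toSt V g h v)

theorem isUnit_rho_of_notMem (a : Z) (v : V) (hv : v ∉ (g a).asIdeal) : IsUnit (rho V g a v) := by
  rw [rho_apply]
  refine IsUnit.map _ ?_
  letI a1 : Algebra V ((Spec (CommRingCat.of V)).presheaf.stalk (g a)) :=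
    StructureSheaf.stalkAlgebra V (g a)
  haveI l1 : IsLocalization.AtPrime ((Spec (CommRingCat.of V)).presheaf.stalk (g a))
      (g a).asIdeal := StructureSheaf.IsLocalization.to_stalk V (g a)
  exact IsLocalization.map_units ((Spec (CommRingCat.of V)).presheaf.stalk (g a))
    (⟨v, hv⟩ : (g a).asIdeal.primeCompl)

theorem toSt_mem_maximalIdeal (a : Z) (v : V) (hv : v ∈ (g a).asIdeal) :
    toSt V g a v ∈ maximalIdeal ((Spec (CommRingCat.of V)).presheaf.stalk (g a)) := by
  letI a1 : Algebra V ((Spec (CommRingCat.of V)).presheaf.stalk (g a)) :=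
    StructureSheaf.stalkAlgebra V (g a)
  haveI l1 : IsLocalization.AtPrime ((Spec (CommRingCat.of V)).presheaf.stalk (g a))
      (g a).asIdeal := StructureSheaf.IsLocalization.to_stalk V (g a)
  exact (IsLocalization.AtPrime.to_map_mem_maximal_iff
    ((Spec (CommRingCat.of V)).presheaf.stalk (g a)) (g a).asIdeal v).mpr hv

theorem rho_mem_maximalIdeal (a : Z) (v : V) (hv : v ∈ (g a).asIdeal) :
    rho V g a v ∈ maximalIdeal (Z.presheaf.stalk a) := by
  have h1 := toSt_mem_maximalIdeal V g a v hv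
  rw [mem_maximalIdeal, mem_nonunits_iff] at h1 ⊢
  intro hu
  have : IsLocalHom (g.stalkMap a).hom := inferInstance
  exact h1 (this.map_nonunit _ hu)

theorem fibreIdeal_eq_map (a : Z) : fibreIdeal g a = (g a).asIdeal.map (rho V g a) := by
  letI a1 : Algebra V ((Spec (CommRingCat.of V)).presheaf.stalk (g a)) :=
    StructureSheaf.stalkAlgebra V (g a)
  haveI l1 : IsLocalization.AtPrime ((Spec (CommRingCat.of V)).presheaf.stalk (g a))
      (g a).asIdeal := StructureSheaf.IsLocalization.to_stalk V (g a)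
  have h1 : maximalIdeal ((Spec (CommRingCat.of V)).presheaf.stalk (g a)) =
      (g a).asIdeal.map (toSt V g a) :=
    (IsLocalization.AtPrime.map_eq_maximalIdeal (g a).asIdeal
      ((Spec (CommRingCat.of V)).presheaf.stalk (g a))).symm
  unfold fibreIdeal
  rw [h1, Ideal.map_map]
  rfl

theorem fibreIdeal_of_generic (a : Z) (ha : (g a).asIdeal = ⊥) : fibreIdeal g a = ⊥ := by
  rw [fibreIdeal_eq_map V g a, ha, Ideal.map_bot]

theorem fibreIdeal_of_closed (a : Z) (ϖ : V) (hϖ : Irreducible ϖ)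
    (ha : (g a).asIdeal = maximalIdeal V) : fibreIdeal g a = Ideal.span {rho V g a ϖ} := by
  rw [fibreIdeal_eq_map V g a, ha, hϖ.maximalIdeal_eq, Ideal.map_span, Set.image_singleton]

theorem isSMulRegular_rho [Flat g] (a : Z) (v : V) (hv : v ≠ 0) :
    IsSMulRegular (Z.presheaf.stalk a) (rho V g a v) := by
  letI a1 : Algebra V ((Spec (CommRingCat.of V)).presheaf.stalk (g a)) :=
    StructureSheaf.stalkAlgebra V (g a)
  haveI l1 : IsLocalization.AtPrime ((Spec (CommRingCat.of V)).presheaf.stalk (g a))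
      (g a).asIdeal := StructureSheaf.IsLocalization.to_stalk V (g a)
  haveI : Module.Flat V ((Spec (CommRingCat.of V)).presheaf.stalk (g a)) :=
    IsLocalization.flat _ (g a).asIdeal.primeCompl
  have hreg : IsSMulRegular V v := (isRegular_of_ne_zero hv).left.isSMulRegular
  have h1 : IsSMulRegular ((Spec (CommRingCat.of V)).presheaf.stalk (g a))
      (toSt V g a v) := hreg.of_flat
  letI := (g.stalkMap a).hom.toAlgebra
  haveI : Module.Flat ((Spec (CommRingCat.of V)).presheaf.stalk (g a)) (Z.presheaf.stalk a) :=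
    Flat.stalkMap g a
  exact h1.of_flat

theorem asIdeal_eq_of_mem (a : Z) (ϖ : V) (hϖ : Irreducible ϖ) (h : ϖ ∈ (g a).asIdeal) :
    (g a).asIdeal = maximalIdeal V := by
  have hle : maximalIdeal V ≤ (g a).asIdeal := by
    rw [hϖ.maximalIdeal_eq, Ideal.span_singleton_le_iff_mem]
    exact h
  exact ((IsLocalRing.maximalIdeal.isMaximal V).eq_of_le (g a).isPrime.ne_top hle).symm

theorem dim_fibreStalk_of_generic (a : Z) (ha : (g a).asIdeal = ⊥) :
    ringKrullDim ((g.fiber (g a)).presheaf.stalk (g.asFiber a)) =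
      ringKrullDim (Z.presheaf.stalk a) := by
  have hI := fibreIdeal_of_generic V g a ha
  rw [← ringKrullDim_eq_of_ringEquiv (quotientEquivStalkAsFiber g a)]
  exact ringKrullDim_eq_of_ringEquiv ((Ideal.quotEquivOfEq hI).trans (RingEquiv.quotientBot _))

theorem dim_fibreStalk_of_closed [Flat g] [LocallyOfFiniteType g] (a : Z) (ϖ : V)
    (hϖ : Irreducible ϖ) (ha : (g a).asIdeal = maximalIdeal V) :
    ringKrullDim ((g.fiber (g a)).presheaf.stalk (g.asFiber a)) + 1 =
      ringKrullDim (Z.presheaf.stalk a) := by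
  haveI : IsLocallyNoetherian Z := LocallyOfFiniteType.isLocallyNoetherian g
  have hI := fibreIdeal_of_closed V g a ϖ hϖ ha
  rw [← ringKrullDim_eq_of_ringEquiv (quotientEquivStalkAsFiber g a),
    ringKrullDim_eq_of_ringEquiv (Ideal.quotEquivOfEq hI)]
  refine ringKrullDim_quotient_span_singleton_succ_eq_ringKrullDim_of_mem_jacobson
    (isSMulRegular_rho V g a ϖ hϖ.ne_zero) ?_
  rw [IsLocalRing.ringJacobson_eq_maximalIdeal]
  exact rho_mem_maximalIdeal V g a ϖ (by rw [ha, hϖ.maximalIdeal_eq]; exact Ideal.mem_span_singleton_self ϖ)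

/-- the dimension of a generization as a height. -/
theorem ringKrullDim_stalk_eq_height {X : Scheme.{u}} {x x' : X} (h : x' ⤳ x) :
    ringKrullDim (X.presheaf.stalk x') = (((genPrime h).height : ℕ∞) : WithBot ℕ∞) := by
  letI := (X.presheaf.stalkSpecializes h).hom.toAlgebra
  haveI := isLocalization_stalkSpecializes h
  exact IsLocalization.AtPrime.ringKrullDim_eq_height (genPrime h) _

/-- **Generization of `PrRk k` given `(S_{k+1})`** over a DVR. -/
theorem prRk_generizes_over_dvr (k : ℕ) [Flat g] [LocallyOfFiniteType g] (z z' : Z)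
    (h : z' ⤳ z) (hz : (g z).asIdeal = maximalIdeal V) (hz' : (g z').asIdeal = ⊥)
    (hR : PrRk k g z) (hS : FibP (HasSkSelf (k + 1)) g z) : PrRk k g z' := by
  haveI : IsLocallyNoetherian Z := LocallyOfFiniteType.isLocallyNoetherian g
  haveI : IsLocallyNoetherian (Spec (CommRingCat.of V)) := inferInstance
  haveI : LocallyOfFinitePresentation g := inferInstance
  obtain ⟨ϖ, hϖ⟩ := IsDiscreteValuationRing.exists_irreducible V
  have hmax : maximalIdeal V = Ideal.span {ϖ} := hϖ.maximalIdeal_eq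
  rw [prRk_iff_dim] at hR ⊢
  intro ξ hξ hgξ hns
  have hξz : ξ ⤳ z := hξ.trans h
  have hgξ0 : (g ξ).asIdeal = ⊥ := by rw [hgξ]; exact hz'
  rw [dim_fibreStalk_of_generic V g ξ hgξ0, ringKrullDim_stalk_eq_height hξz]
  set τ : Z.presheaf.stalk z := rho V g z ϖ with hτ
  have hϖz : ϖ ∈ (g z).asIdeal := by rw [hz, hmax]; exact Ideal.mem_span_singleton_self ϖ
  have hτm : τ ∈ maximalIdeal (Z.presheaf.stalk z) := rho_mem_maximalIdeal V g z ϖ hϖz
  have hτreg : IsSMulRegular (Z.presheaf.stalk z) τ := isSMulRegular_rho V g z ϖ hϖ.ne_zero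
  -- `(S_{k+1})` of `C/τ`
  have hSk : LocCoh.HasSk (k + 1) (Z.presheaf.stalk z ⧸ Ideal.span {τ})
      (Z.presheaf.stalk z ⧸ Ideal.span {τ}) := by
    have hP := isLocProp_hasSkSelf.{u} (k + 1)
    rw [fibP_iff_quotient hP] at hS
    have hI : fibreIdeal g z = Ideal.span {τ} := fibreIdeal_of_closed V g z ϖ hϖ hz
    have h3 : HasSkSelf (k + 1) (Z.presheaf.stalk z ⧸ Ideal.span {τ}) :=
      hP.iso (Ideal.quotEquivOfEq hI) hS
    exact h3
  -- a minimal prime over `P + τ`
  have hne : genPrime hξz ⊔ Ideal.span {τ} ≠ ⊤ := by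
    intro htop
    have hle : genPrime hξz ⊔ Ideal.span {τ} ≤ maximalIdeal (Z.presheaf.stalk z) :=
      sup_le (IsLocalRing.le_maximalIdeal (Ideal.IsPrime.ne_top inferInstance))
        ((Ideal.span_singleton_le_iff_mem _).mpr hτm)
    exact (Ideal.IsPrime.ne_top (inferInstance : (maximalIdeal (Z.presheaf.stalk z)).IsPrime))
      (top_le_iff.mp (htop ▸ hle))
  obtain ⟨Q₁, hQ₁⟩ := Ideal.nonempty_minimalPrimes hne
  haveI : Q₁.IsPrime := hQ₁.1.1
  have hτQ₁ : τ ∈ Q₁ := hQ₁.1.2 (le_sup_right (a := genPrime hξz) (Ideal.subset_span rfl))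
  obtain ⟨ζ, hζ, hgen⟩ := exists_genPrime_eq z Q₁
  have hξζ : ξ ⤳ ζ := specializes_of_genPrime_le hξz hζ (by
    rw [hgen]; exact le_sup_left.trans hQ₁.1.2)
  -- `ζ` lies in the closed fibre
  have hϖζ : ϖ ∈ (g ζ).asIdeal := by
    by_contra hnm
    have hu := isUnit_rho_of_notMem V g ζ ϖ hnm
    rw [← stalkSpecializes_rho V g hζ] at hu
    have h4 : τ ∉ genPrime hζ := by
      rw [mem_genPrime_iff, not_not]; exact hu
    exact h4 (hgen ▸ hτQ₁)
  have hgζ : (g ζ).asIdeal = maximalIdeal V := asIdeal_eq_of_mem V g ζ ϖ hϖ hϖζ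
  have hgζz : g ζ = g z := PrimeSpectrum.ext (hgζ.trans hz.symm)
  -- `g` is not smooth at `ζ`
  have hnsζ : ¬ FibSm g ζ := by
    intro hsm
    apply hns
    rw [fibSm_iff_mem_smoothLocus] at hsm ⊢
    exact hξζ.mem_open g.smoothLocus.isOpen hsm
  have h1 := hR ζ hζ hgζz hnsζ
  have h2 := dim_fibreStalk_of_closed V g ζ ϖ hϖ hgζ
  rw [ringKrullDim_stalk_eq_height hζ, hgen] at h2
  have hdim : (((k + 1) + 1 : ℕ) : ℕ∞) ≤ Q₁.height := by
    generalize ringKrullDim ((g.fiber (g ζ)).presheaf.stalk (g.asFiber ζ)) = e at h1 h2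
    induction e using WithBot.recBotCoe with
    | bot => simp at h1
    | coe e =>
      have h6 : ((e + 1 : ℕ∞) : WithBot ℕ∞) = ((Q₁.height : ℕ∞) : WithBot ℕ∞) := by
        push_cast; exact h2
      have h7 : e + 1 = Q₁.height := WithBot.coe_injective h6
      have h8 : ((k + 1 : ℕ) : ℕ∞) ≤ e := by exact_mod_cast h1
      rw [← h7]
      push_cast
      exact add_le_add h8 le_rfl
  have h9 := height_ge_of_quot (k + 1) τ hτreg (genPrime hξz) Q₁ hQ₁ hSk hdim
  exact_mod_cast h9

end DVR

end Groth.Agent.H58.SkOpen
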