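import Groth.Agent.H58.SkOpen.NormFinite
import Groth.Agent.H58.SkOpen.RkDVR

/-!
# Geometric `(R_k)` tested on finite extensions; `(S_1)` as absence of embedded primes
(helper58; for S5931, S5932)
-/

set_option autoImplicit false
set_option backward.isDefEq.respectTransparency.types false
set_option linter.unusedSectionVars false
set_option linter.style.haveILetI false
universe u

open CategoryTheory CategoryTheory.Limits AlgebraicGeometry IsLocalRing Topology
open Groth.Agent.H15.StalkLoc Groth.Agent.H99.RkTop Groth.Agent.H99.RkField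
  Groth.Agent.H99.RkGen Groth.Agent.H49.SmoothFibreConstr Groth.Agent.H99.FieldDim
  Groth.Agent.H58.GenDepth Groth.Agent.H29.SkAt

namespace Groth.Agent.H58.SkOpen

section S1

variable (R : Type u) [CommRing R] [IsNoetherianRing R]

/-- `(S_1)` for a Noetherian ring: every associated prime is minimal. -/
theorem hasSk_one_iff_ass_minimal :
    LocCoh.HasSk 1 R R ↔ ∀ p ∈ associatedPrimes R R, p ∈ minimalPrimes R := by
  rw [hasSk_iff]
  constructor
  · intro h p hp
    haveI : p.IsPrime := hp.isPrime
    have hd := depth_eq_zero_of_mem_associatedPrimes R R p hp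
    have hS := h p
    unfold SkCond at hS
    rw [hd] at hS
    have hdm : dm R p = ((p.height : ℕ∞) : WithBot ℕ∞) := dm_self p
    change min ((1 : ℕ) : WithBot ℕ∞) (dm R p) ≤ _ at hS
    rw [hdm] at hS
    have h0 : p.height = 0 := by
      by_contra hne
      have h1 : (1 : ℕ∞) ≤ p.height := ENat.one_le_iff_ne_zero.mpr hne
      have h2 : min ((1 : ℕ) : WithBot ℕ∞) ((p.height : ℕ∞) : WithBot ℕ∞) = ((1 : ℕ) : WithBot ℕ∞) :=
        min_eq_left (by exact_mod_cast h1)
      rw [h2] at hS
      have : ((1 : ℕ) : ℕ∞) ≤ (0 : ℕ∞) := by exact_mod_cast hS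
      simp at this
    have hmin : p ∈ (⊥ : Ideal R).minimalPrimes :=
      Ideal.mem_minimalPrimes_of_height_le bot_le (by rw [h0]; exact bot_le)
    exact hmin
  · intro h q _
    unfold SkCond
    by_cases hd : LocCoh.depth (Localization.AtPrime q) (LocalizedModule q.primeCompl R) = 0
    · have hass := mem_associatedPrimes_of_depth_eq_zero R R q hd
      have hmin : q ∈ (⊥ : Ideal R).minimalPrimes := h q hass
      have h0 : q.height = 0 := Ideal.height_eq_zero_iff.mpr hmin
      have hdm : dm R q = ((q.height : ℕ∞) : WithBot ℕ∞) := dm_self q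
      change min ((1 : ℕ) : WithBot ℕ∞) (dm R q) ≤ _
      rw [hdm, h0]
      exact (min_le_right _ _).trans (by simp)
    · refine (min_le_left _ _).trans ?_
      have h1 : (1 : ℕ∞) ≤
          LocCoh.depth (Localization.AtPrime q) (LocalizedModule q.primeCompl R) :=
        ENat.one_le_iff_ne_zero.mpr hd
      exact_mod_cast h1

end S1

section Field

variable {κ : Type u} [Field κ] {Y : Scheme.{u}} (q : Y ⟶ Spec (CommRingCat.of κ))
  [LocallyOfFiniteType q]

/-- geometric `(R_k)` tested on finite extensions implies `PrRk k`. -/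
theorem prRk_of_finite_hasRk (k : ℕ) (y : Y)
    (H : ∀ (K : Type u) [Field K] [Algebra κ K], Module.Finite κ K →
      ∀ x' : ↥(FBase.bc q K), (FBase.bcπ q K).base x' = y →
        LocCoh.HasRk k ((FBase.bc q K).presheaf.stalk x')) :
    PrRk k q y := by
  haveI : IsLocallyNoetherian Y := isLocallyNoetherian q
  haveI : IsLocallyNoetherian (Spec (CommRingCat.of κ)) := inferInstance
  haveI : LocallyOfFinitePresentation q := inferInstance
  intro ξ hξ _ hns
  suffices hdim : ((k + 1 : ℕ) : WithBot ℕ∞) ≤ ringKrullDim (Y.presheaf.stalk ξ) by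
    obtain ⟨w, hw, hle⟩ := (field_exists_iff q ξ (k + 1)).mpr hdim
    exact ⟨w, hw, Subsingleton.elim _ _, hle⟩
  by_contra hdim
  apply hns
  letI : Y.Over (Spec (CommRingCat.of κ)) := ⟨q⟩
  haveI : Flat q := inferInstance
  haveI : LocallyOfFinitePresentation (Y ↘ Spec (CommRingCat.of κ)) :=
    (inferInstance : LocallyOfFinitePresentation q)
  rw [fibSm_iff_mem_smoothLocus]
  refine (Groth.Agent.H25.GeomRegSmooth.isGeomRegularAt_iff_mem_smoothLocus κ Y ξ).mp ?_
  refine Groth.Agent.H25.GeomRegAt.isGeomRegularAt_of_purelyInseparable κ Y ξ ?_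
  intro k' _ _ _ _ x'' hx''
  haveI hfin : IsFinite (Spec.map (CommRingCat.ofHom (algebraMap κ k'))) := by
    rw [IsFinite.SpecMap_iff]
    exact RingHom.finite_algebraMap.mpr inferInstance
  haveI hπfin : IsFinite (FBase.bcπ q k') :=
    inferInstanceAs (IsFinite (pullback.fst q (Spec.map (CommRingCat.ofHom (algebraMap κ k')))))
  haveI : LocallyOfFiniteType (FBase.bcStr q k') :=
    inferInstanceAs (LocallyOfFiniteType
      (pullback.snd q (Spec.map (CommRingCat.ofHom (algebraMap κ k')))))
  haveI : IsLocallyNoetherian (FBase.bc q k') :=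
    LocallyOfFiniteType.isLocallyNoetherian (FBase.bcStr q k')
  obtain ⟨z'', rfl⟩ : ∃ z'' : ↥(FBase.bc q k'), z'' = x'' := ⟨x'', rfl⟩
  have hx : (FBase.bcπ q k') z'' = ξ := hx''
  have hcl : IsClosed ((FBase.bcπ q k') '' closure {z''}) :=
    (FBase.bcπ q k').isClosedMap _ isClosed_closure
  have hy : y ∈ (FBase.bcπ q k') '' closure {z''} := by
    have h1 : ξ ∈ (FBase.bcπ q k') '' closure {z''} := ⟨z'', subset_closure rfl, hx⟩
    exact (hcl.closure_subset_iff.mpr (Set.singleton_subset_iff.mpr h1)) hξ.mem_closure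
  obtain ⟨z', hz'cl, hz'y⟩ := hy
  have hsp : z'' ⤳ z' := specializes_iff_mem_closure.mpr hz'cl
  have hR := H k' inferInstance z' hz'y
  -- dimension
  have h1 := Groth.Agent.H49.FibreDim.ringKrullDim_stalk_le_add_fibre (FBase.bcπ q k') z''
  have h2 := Groth.Agent.H49.CMChart.ringKrullDim_fiber_stalk_eq_zero (FBase.bcπ q k') z''
    ((FBase.bcπ q k').quasiFiniteAt z'')
  rw [h2, add_zero] at h1
  have h3 : ringKrullDim ((FBase.bc q k').presheaf.stalk z'') ≤ ((k : ℕ) : WithBot ℕ∞) := by
    subst hx
    obtain ⟨d, hd⟩ := Groth.Agent.H72.FlatCM.exists_ringKrullDim_eq_natCast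
      (Y.presheaf.stalk ((FBase.bcπ q k') z''))
    rw [hd] at h1 hdim
    have h4 : ¬ k + 1 ≤ d := fun h => hdim (by exact_mod_cast h)
    have h5 : d ≤ k := by omega
    refine h1.trans ?_
    exact_mod_cast h5
  rw [ringKrullDim_stalk_eq_height hsp] at h3
  have h4 : (genPrime hsp).height ≤ (k : ℕ∞) := by exact_mod_cast h3
  haveI := hR (genPrime hsp) h4
  letI := ((FBase.bc q k').presheaf.stalkSpecializes hsp).hom.toAlgebra
  haveI := isLocalization_stalkSpecializes hsp
  let e : Localization.AtPrime (genPrime hsp) ≃+* (FBase.bc q k').presheaf.stalk z'' :=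
    (IsLocalization.algEquiv (genPrime hsp).primeCompl _ _).toRingEquiv
  exact IsRegularLocalRing.of_ringEquiv e

end Field

end Groth.Agent.H58.SkOpen
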