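import Groth.Agent.H58.SkOpen.RkAlg
import Groth.Agent.H58.SkOpen.RkFinite

/-!
# Primes minimal over `Q + tC` (helper58; for S5931)
-/

set_option autoImplicit false
set_option linter.unusedSectionVars false
set_option linter.style.haveILetI false
universe u

open IsLocalRing Groth.Agent.H58.GenDepth Groth.Agent.H29.SkAt

namespace Groth.Agent.H58.SkOpen

variable {C : Type u} [CommRing C] [IsNoetherianRing C]

/-- no prime lies strictly between `Q` and a minimal prime `Q₁` of `Q + tC`. -/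
theorem eq_or_eq_of_between (t : C) (Q Q₁ T : Ideal C) [Q.IsPrime] [Q₁.IsPrime] [T.IsPrime]
    (hmin : Q₁ ∈ (Q ⊔ Ideal.span {t}).minimalPrimes) (h1 : Q ≤ T) (h2 : T ≤ Q₁) :
    T = Q ∨ T = Q₁ := by
  have htQ₁ : t ∈ Q₁ := hmin.1.2 (le_sup_right (a := Q) (Ideal.subset_span rfl))
  by_cases htT : t ∈ T
  · right
    exact le_antisymm h2 (hmin.2
      ⟨inferInstance, sup_le h1 ((Ideal.span_singleton_le_iff_mem _).mpr htT)⟩ h2)
  · left
    have hlt : T < Q₁ := lt_of_le_of_ne h2 (fun h => htT (h ▸ htQ₁))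
    have hsurj : Function.Surjective (Ideal.Quotient.mk Q) := Ideal.Quotient.mk_surjective
    haveI : (T.map (Ideal.Quotient.mk Q)).IsPrime :=
      Ideal.map_isPrime_of_surjective hsurj (by rw [Ideal.mk_ker]; exact h1)
    have hlt' : T.map (Ideal.Quotient.mk Q) < Q₁.map (Ideal.Quotient.mk Q) := by
      refine lt_of_le_of_ne (Ideal.map_mono h2) (fun h => ?_)
      have := congrArg (Ideal.comap (Ideal.Quotient.mk Q)) h
      rw [Ideal.comap_map_of_surjective _ hsurj, Ideal.comap_map_of_surjective _ hsurj,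
        ← RingHom.ker_eq_comap_bot, Ideal.mk_ker, sup_eq_left.mpr h1,
        sup_eq_left.mpr (h1.trans h2)] at this
      exact hlt.ne this
    have hht := Ideal.height_strict_mono_of_isPrime hlt'
    have h3 := height_map_mk_le_one t Q Q₁ hmin
    have h0 : (T.map (Ideal.Quotient.mk Q)).height = 0 :=
      ENat.lt_one_iff_eq_zero.mp (hht.trans_le h3)
    rw [Ideal.height_eq_zero_iff_eq_bot, Ideal.map_eq_bot_iff_le_ker, Ideal.mk_ker] at h0
    exact le_antisymm h0 h1

/-- under `(S_1)` of `C/tC`, a minimal prime of `Q + tC` with `Q` a minimal prime of `C` is a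
minimal prime of `tC`. -/
theorem mem_minimalPrimes_span_of_S1 (t : C) (hreg : IsSMulRegular C t) (Q Q₁ : Ideal C)
    [Q.IsPrime] [Q₁.IsPrime] (hmin : Q₁ ∈ (Q ⊔ Ideal.span {t}).minimalPrimes)
    (hQ : Q ∈ minimalPrimes C)
    (hS : LocCoh.HasSk 1 (C ⧸ Ideal.span {t}) (C ⧸ Ideal.span {t})) :
    Q₁ ∈ (Ideal.span {t}).minimalPrimes := by
  have htQ₁ : t ∈ Q₁ := hmin.1.2 (le_sup_right (a := Q) (Ideal.subset_span rfl))
  have hQ0 : Q.height = 0 := Ideal.height_eq_zero_iff.mpr hQ
  have hle : Q₁.height ≤ 1 := by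
    by_contra hgt
    push_neg at hgt
    have h2 : ((1 + 1 : ℕ) : ℕ∞) ≤ Q₁.height := by
      have := Order.add_one_le_of_lt hgt
      exact_mod_cast this
    have h3 := height_ge_of_quot 1 t hreg Q Q₁ hmin hS h2
    rw [hQ0] at h3
    simp at h3
  haveI : Q₁.FiniteHeight := inferInstance
  refine Ideal.mem_minimalPrimes_of_height_le ((Ideal.span_singleton_le_iff_mem _).mpr htQ₁)
    (hle.trans ?_)
  apply Ideal.one_le_height_span_singleton_of_mem_nonZeroDivisors
  rw [mem_nonZeroDivisors_iff]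
  refine ⟨fun x hx => ?_, fun x hx => ?_⟩
  · apply hreg
    simp only [smul_eq_mul, mul_zero]
    exact hx
  · apply hreg
    simp only [smul_eq_mul, mul_zero]
    rw [mul_comm]; exact hx

end Groth.Agent.H58.SkOpen
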