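import Groth.Agent.H58.SkOpen.RkDVR
import Groth.Agent.H26.CMFlat
import Groth.Agent.H72.CMCatenary
import Groth.Agent.H72.CMLocal
import Groth.Agent.H48.DimFunSch
import Groth.Agent.H48.DimIneqSch2
import Groth.Agent.H48.CycFib
import Groth.Agent.H17.Chev.FibComp

/-!
# A dimension function on schemes locally of finite type over a DVR (helper58; for S5931)

`δ_V` is `1` at the generic point and `0` at the closed point of `Spec V`; `δ_Z x = δ_V (g x) +
trdeg κ(x)/κ(g x)` is a dimension function on `Z` and the fibre dimension `fdim g x` is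
`δ_Z x - δ_V (g x)`.
-/

set_option autoImplicit false
set_option backward.isDefEq.respectTransparency.types false
set_option linter.unusedSectionVars false
set_option linter.style.haveILetI false
universe u

open CategoryTheory CategoryTheory.Limits AlgebraicGeometry IsLocalRing Topology
open Groth.Agent.H99.RkTop

namespace Groth.Agent.H58.SkOpen

section DVR

variable (V : Type u) [CommRing V] [IsDomain V] [IsDiscreteValuationRing V]

open Classical in
/-- `1` at the generic point and `0` at the closed point. -/
noncomputable def deltaV (t : Spec (CommRingCat.of V)) : ℤ := if t.asIdeal = ⊥ then 1 else 0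

theorem deltaV_of_bot (t : Spec (CommRingCat.of V)) (h : t.asIdeal = ⊥) : deltaV V t = 1 := by
  unfold deltaV; rw [if_pos h]

theorem deltaV_of_max (t : Spec (CommRingCat.of V)) (h : t.asIdeal = maximalIdeal V) :
    deltaV V t = 0 := by
  unfold deltaV
  rw [if_neg]
  rw [h]
  intro hbot
  exact IsDiscreteValuationRing.not_a_field V hbot

theorem asIdeal_eq_bot_or_max (t : Spec (CommRingCat.of V)) :
    t.asIdeal = ⊥ ∨ t.asIdeal = maximalIdeal V := by
  by_cases h : t.asIdeal = ⊥
  · exact Or.inl h
  · right
    haveI : t.asIdeal.IsMaximal := Ideal.IsPrime.isMaximal t.isPrime h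
    exact IsLocalRing.eq_maximalIdeal inferInstance

theorem isUniversallyCatenary_stalk_dvr (t : Spec (CommRingCat.of V)) :
    CAlg.IsUniversallyCatenary ((Spec (CommRingCat.of V)).presheaf.stalk t) := by
  haveI : IsRegularLocalRing ((Spec (CommRingCat.of V)).presheaf.stalk t) := by
    letI k : Algebra V ((Spec (CommRingCat.of V)).presheaf.stalk t) :=
      StructureSheaf.stalkAlgebra V t
    haveI : IsLocalization.AtPrime ((Spec (CommRingCat.of V)).presheaf.stalk t) t.asIdeal :=
      StructureSheaf.IsLocalization.to_stalk V t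
    let e : Localization.AtPrime t.asIdeal ≃+* (Spec (CommRingCat.of V)).presheaf.stalk t :=
      (IsLocalization.algEquiv t.asIdeal.primeCompl _ _).toRingEquiv
    exact IsRegularLocalRing.of_ringEquiv e
  have h1 := Groth.Agent.H26.CMFlat.isCohenMacaulayLocalRing_of_isRegularLocalRing
    ((Spec (CommRingCat.of V)).presheaf.stalk t)
  haveI : IsNoetherianRing ((Spec (CommRingCat.of V)).presheaf.stalk t) := inferInstance
  haveI := Groth.Agent.H72.CMLocal.isCohenMacaulayRing_of_local _ h1
  exact Groth.Agent.H72.CMCatenary.isUniversallyCatenary_of_isCohenMacaulayRing _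

theorem isSetup_dvr : Cyc.IsSetup (Spec (CommRingCat.of V)) (deltaV V) := by
  refine ⟨inferInstance, isUniversallyCatenary_stalk_dvr V, ?_⟩
  intro x y hxy hne
  have hle : x.asIdeal ≤ y.asIdeal := (PrimeSpectrum.le_iff_specializes x y).mpr hxy
  have hx : x.asIdeal = ⊥ := by
    rcases asIdeal_eq_bot_or_max V x with h | h
    · exact h
    · exfalso
      apply hne
      apply PrimeSpectrum.ext
      refine le_antisymm hle ?_
      rw [h]
      exact IsLocalRing.le_maximalIdeal y.isPrime.ne_top
  have hy : y.asIdeal = maximalIdeal V := by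
    rcases asIdeal_eq_bot_or_max V y with h | h
    · exfalso
      apply hne
      apply PrimeSpectrum.ext
      rw [hx, h]
    · exact h
  rw [deltaV_of_bot V x hx, deltaV_of_max V y hy]
  exact ⟨by norm_num, fun _ => by norm_num⟩

variable {V} {Z : Scheme.{u}} (g : Z ⟶ Spec (CommRingCat.of V)) [LocallyOfFiniteType g]

/-- the induced dimension function on `Z`. -/
noncomputable def deltaZ (x : Z) : ℤ :=
  deltaV V (g x) + ((Groth.Agent.H48.DimIneqSch2.exists_trdeg_eq_nat g x).choose : ℤ)

theorem deltaCompatZ : Cyc.DeltaCompat g (deltaZ g) (deltaV V) := by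
  intro x
  exact ⟨(Groth.Agent.H48.DimIneqSch2.exists_trdeg_eq_nat g x).choose,
    (Groth.Agent.H48.DimIneqSch2.exists_trdeg_eq_nat g x).choose_spec, rfl⟩

theorem isDimFunZ : Cyc.IsDimFun Z (deltaZ g) :=
  Groth.Agent.H48.DimFunSch.isDimFun_of_deltaCompat g _ (isSetup_dvr V) _ (deltaCompatZ g)

theorem deltaV_le_deltaZ (x : Z) : deltaV V (g x) ≤ deltaZ g x := by
  unfold deltaZ
  omega

/-- the fibre dimension of a point in terms of the dimension function. -/
theorem fdim_eq_deltaZ (x : Z) :
    fdim g x = ((((deltaZ g x - deltaV V (g x)).toNat : ℕ) : ℕ∞) : WithBot ℕ∞) := by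
  have h1 := Groth.Agent.H48.CycFib.topologicalKrullDim_closure_asFiber g (deltaZ g) (deltaV V)
    (isDimFunZ g) (deltaCompatZ g) x
  rw [Groth.Agent.H17.Chev.dim_closure_fiber_eq g (g x) (g.asFiber x)] at h1
  have h2 : (g.fiberι (g x)).base (g.asFiber x) = x := Scheme.Hom.fiberι_asFiber g x
  rw [h2] at h1
  exact h1

end DVR

end Groth.Agent.H58.SkOpen
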