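import Groth.Agent.H58.SkOpen.RkFinite
import Groth.Agent.H99.FibEqui
import Groth.Agent.H99.RkMain
import Groth.Prelude.Def_EGA4b

/-!
# Equidimensionality of the fibre at a point: `FibEqui` versus the local ring (helper58; S5931)
-/

set_option autoImplicit false
set_option backward.isDefEq.respectTransparency.types false
set_option linter.unusedSectionVars false
set_option linter.style.haveILetI false
universe u

open CategoryTheory CategoryTheory.Limits AlgebraicGeometry IsLocalRing Topology
open Groth.Agent.H15.StalkLoc Groth.Agent.H99.RkTop Groth.Agent.H99.RkField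
  Groth.Agent.H99.FieldDim Groth.Agent.H99.FibEqui

namespace Groth.Agent.H58.SkOpen

section General

variable {X : Scheme.{u}}

/-- monotonicity of the prime of a generization. -/
theorem genPrime_mono {z a b : X} (hab : a ⤳ b) (hb : b ⤳ z) :
    genPrime (hab.trans hb) ≤ genPrime hb := by
  intro x hx
  rw [mem_genPrime_iff] at hx ⊢
  intro hu
  apply hx
  have h1 : (X.presheaf.stalkSpecializes (hab.trans hb)).hom x =
      (X.presheaf.stalkSpecializes hab).hom ((X.presheaf.stalkSpecializes hb).hom x) := by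
    rw [← CommRingCat.comp_apply, TopCat.Presheaf.stalkSpecializes_comp]
  rw [h1]
  exact hu.map _

theorem genPrime_congr {z a b : X} (ha : a ⤳ z) (hb : b ⤳ z) (hab : a = b) :
    genPrime ha = genPrime hb := by
  subst hab; rfl

/-- a point without proper generizations gives a minimal prime. -/
theorem genPrime_mem_minimalPrimes {z ξ : X} (h : ξ ⤳ z) (hmax : ∀ ξ' : X, ξ' ⤳ ξ → ξ' = ξ) :
    genPrime h ∈ minimalPrimes (X.presheaf.stalk z) := by
  refine ⟨⟨inferInstance, bot_le⟩, ?_⟩
  rintro P' ⟨hP', -⟩ hle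
  obtain ⟨ξ', h', hgen⟩ := exists_genPrime_eq z P'
  have hsp : ξ' ⤳ ξ := specializes_of_genPrime_le h' h (hgen ▸ hle)
  have := hmax ξ' hsp
  rw [← hgen, genPrime_congr h' h this]

/-- a generization whose prime is minimal has no proper generization. -/
theorem eq_of_genPrime_mem_minimalPrimes {z ξ : X} (h : ξ ⤳ z)
    (hmin : genPrime h ∈ minimalPrimes (X.presheaf.stalk z)) (ξ' : X) (hξ' : ξ' ⤳ ξ) : ξ' = ξ := by
  have hle := genPrime_mono hξ' h
  have hge : genPrime h ≤ genPrime (hξ'.trans h) := hmin.2 ⟨inferInstance, bot_le⟩ hle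
  have hsp : ξ ⤳ ξ' := specializes_of_genPrime_le h (hξ'.trans h) hge
  exact (hξ'.antisymm hsp).eq

theorem ker_specMap {z ξ : X} (h : ξ ⤳ z) : RingHom.ker (Cyc.specMap z ξ h) = genPrime h := by
  ext a
  rw [RingHom.mem_ker, mem_genPrime_iff]
  change (X.residue ξ).hom ((X.presheaf.stalkSpecializes h).hom a) = 0 ↔ _
  rw [← mem_nonunits_iff, ← IsLocalRing.mem_maximalIdeal]
  exact IsLocalRing.residue_eq_zero_iff _

theorem delta_mono (δ : X → ℤ) (hδ : Cyc.IsDimFun X δ) {a b : X} (h : a ⤳ b) : δ b ≤ δ a := by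
  by_cases hab : a = b
  · rw [hab]
  · exact (hδ a b h hab).1.le

end General

section Field

variable {κ : Type u} [Field κ] {Y : Scheme.{u}} (q : Y ⟶ Spec (CommRingCat.of κ))
  [LocallyOfFiniteType q]

theorem ringKrullDim_quot_genPrime {y ξ : Y} (h : ξ ⤳ y) :
    ringKrullDim (Y.presheaf.stalk y ⧸ genPrime h) =
      ((((delta q ξ - delta q y).toNat : ℕ) : ℕ∞) : WithBot ℕ∞) := by
  haveI := jacobsonSpace q
  haveI := isLocallyNoetherian q
  rw [← Groth.Agent.H48.CycDim6.ringKrullDim_locQuot Y (delta q) (isDimFun q) ξ y h]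
  exact ringKrullDim_eq_of_ringEquiv (Ideal.quotEquivOfEq (ker_specMap h).symm)

theorem fibMax_iff_field (ξ : Y) : FibMax q ξ ↔ ∀ ξ' : Y, ξ' ⤳ ξ → ξ' = ξ :=
  ⟨fun h ξ' hξ' => h ξ' (Subsingleton.elim _ _) hξ', fun h ξ' _ hξ' => h ξ' hξ'⟩

/-- **Bridge over a field.** -/
theorem fibEqui_iff_isEquidim_field (y : Y) :
    FibEqui q y ↔ EGA4.IsEquidim (Y.presheaf.stalk y) := by
  haveI := jacobsonSpace q
  haveI := isLocallyNoetherian q
  have hδ := isDimFun q
  constructor
  · rintro ⟨e, he⟩ p hp
    haveI : p.IsPrime := hp.1.1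
    obtain ⟨ξ, h, hgen⟩ := exists_genPrime_eq y p
    have hmax : FibMax q ξ := (fibMax_iff_field q ξ).mpr
      (eq_of_genPrime_mem_minimalPrimes h (hgen ▸ hp))
    have key : ∀ w : Y, w ⤳ y → FibMax q w → delta q w = e := by
      intro w hw hwmax
      have h1 := he w hw (Subsingleton.elim _ _) hwmax
      rw [fibreDimAt_of_fibMax q w hwmax] at h1
      change fdim q w = _ at h1
      rw [fdim_eq] at h1
      have h2 : (delta q w).toNat = e := by exact_mod_cast h1
      have := delta_nonneg' q w
      omega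
    have hξe := key ξ h hmax
    have h1 : ringKrullDim (Y.presheaf.stalk y ⧸ p) =
        ((((e - delta q y).toNat : ℕ) : ℕ∞) : WithBot ℕ∞) := by
      rw [← hgen, ringKrullDim_quot_genPrime q h, hξe]
    rw [h1]
    apply le_antisymm
    · rw [← hξe]
      exact le_ringKrullDim_of_specializes (delta q) hδ y ξ h
    · obtain ⟨w, hw, hle⟩ := exists_gen_ringKrullDim_le (delta q) hδ y
      obtain ⟨w₀, hw₀, -, hw₀max⟩ := exists_fibMax_specializes q w
      have h2 := key w₀ (hw₀.trans hw) hw₀max
      have h3 := delta_mono (delta q) hδ hw₀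
      refine hle.trans ?_
      have : (delta q w - delta q y).toNat ≤ (e - delta q y).toNat := by omega
      exact_mod_cast this
  · intro hE
    obtain ⟨d, hd⟩ := Groth.Agent.H72.FlatCM.exists_ringKrullDim_eq_natCast (Y.presheaf.stalk y)
    refine ⟨(delta q y + d).toNat, fun ξ hξ _ hmax => ?_⟩
    rw [fibreDimAt_of_fibMax q ξ hmax]
    change fdim q ξ = _
    rw [fdim_eq]
    have hmin := genPrime_mem_minimalPrimes hξ ((fibMax_iff_field q ξ).mp hmax)
    have h1 := hE _ hmin
    rw [ringKrullDim_quot_genPrime q hξ, hd] at h1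
    have h2 : (delta q ξ - delta q y).toNat = d := by exact_mod_cast h1
    have h3 := delta_mono (delta q) hδ hξ
    have h4 := delta_nonneg' q y
    have : (delta q ξ).toNat = (delta q y + d).toNat := by omega
    rw [this]
    rfl

end Field

section Rel

variable {X Y : Scheme.{u}} (f : X ⟶ Y) [LocallyOfFiniteType f]

/-- **Bridge**: `FibEqui f x` is equidimensionality of the local ring of the fibre at `x`. -/
theorem fibEqui_iff_isEquidim (x : X) :
    FibEqui f x ↔ EGA4.IsEquidim ((f.fiber (f.base x)).presheaf.stalk (f.asFiber x)) := by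
  let κ := IsLocalRing.ResidueField (Y.presheaf.stalk (f.base x))
  let q : f.fiber (f.base x) ⟶ Spec (CommRingCat.of κ) := f.fiberToSpecResidueField (f.base x)
  haveI : LocallyOfFiniteType q :=
    inferInstanceAs (LocallyOfFiniteType (pullback.snd f (Y.fromSpecResidueField (f.base x))))
  have sq1 : IsPullback (f.fiberι (f.base x)) q f (Y.fromSpecResidueField (f.base x)) :=
    IsPullback.of_hasPullback _ _
  have e1 : FibEqui q (f.asFiber x) ↔ FibEqui f x := by
    have := fibEqui_baseChange f q (f.fiberι (f.base x)) (Y.fromSpecResidueField (f.base x)) sq1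
      (f.asFiber x)
    rwa [Scheme.Hom.fiberι_asFiber] at this
  rw [← e1]
  exact fibEqui_iff_isEquidim_field q (f.asFiber x)

/-- geometric `(R_k)` at `x` tested on finite extensions of the residue field is `PrRk k`. -/
theorem geomRkFinite_iff (k : ℕ) (x : X) :
    (∀ (K : Type u) [Field K] [Algebra (IsLocalRing.ResidueField (Y.presheaf.stalk (f.base x))) K],
        Module.Finite (IsLocalRing.ResidueField (Y.presheaf.stalk (f.base x))) K →
        ∀ x' : ↥(FBase.bc (f.fiberToSpecResidueField (f.base x)) K),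
          (FBase.bcπ (f.fiberToSpecResidueField (f.base x)) K).base x' = f.asFiber x →
          LocCoh.HasRk k ((FBase.bc (f.fiberToSpecResidueField (f.base x)) K).presheaf.stalk x')) ↔
      PrRk k f x := by
  constructor
  · intro H
    let κ := IsLocalRing.ResidueField (Y.presheaf.stalk (f.base x))
    let q : f.fiber (f.base x) ⟶ Spec (CommRingCat.of κ) := f.fiberToSpecResidueField (f.base x)
    haveI : LocallyOfFiniteType q :=
      inferInstanceAs (LocallyOfFiniteType (pullback.snd f (Y.fromSpecResidueField (f.base x))))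
    have sq1 : IsPullback (f.fiberι (f.base x)) q f (Y.fromSpecResidueField (f.base x)) :=
      IsPullback.of_hasPullback _ _
    have e1 : PrRk k q (f.asFiber x) ↔ PrRk k f x := by
      have := prRk_baseChange f q (f.fiberι (f.base x)) (Y.fromSpecResidueField (f.base x)) sq1 k
        (f.asFiber x)
      rwa [Scheme.Hom.fiberι_asFiber] at this
    exact e1.mp (prRk_of_finite_hasRk q k (f.asFiber x) H)
  · intro h K _ _ _ x' hx'
    exact (Groth.Agent.H99.RkMain.geomRk_iff f k x).mpr h K x' hx'

/-- no embedded component through `x` in the fibre is `(S_1)` of the fibre at `x`. -/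
theorem noEmbedded_iff (x : X) :
    (∀ p ∈ associatedPrimes ((f.fiber (f.base x)).presheaf.stalk (f.asFiber x))
        ((f.fiber (f.base x)).presheaf.stalk (f.asFiber x)),
      p ∈ minimalPrimes ((f.fiber (f.base x)).presheaf.stalk (f.asFiber x))) ↔
      Groth.Agent.H99.FibLocProp.FibP (Groth.Agent.H99.SkField.HasSkSelf 1) f x := by
  haveI := Groth.Agent.H49.CMChart.isLocallyNoetherian_fiber f (f.base x)
  rw [fibP_hasSkSelf_iff f 1 x, hasSk_one_iff_ass_minimal]

end Rel

end Groth.Agent.H58.SkOpen
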