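import Groth.Agent.H58.SkOpen.EquiAlg
import Groth.Agent.H58.SkOpen.EquiBridge
import Groth.Agent.H58.SkOpen.DVRDim
import Groth.Agent.H58.SkOpen.RedOpen

/-!
# Generization of "geometric `(R_k)` + equidimensional + no embedded components" over a DVR
(helper58; for S5931)
-/

set_option autoImplicit false
set_option backward.isDefEq.respectTransparency.types false
set_option linter.unusedSectionVars false
set_option linter.style.haveILetI false
universe u

open CategoryTheory CategoryTheory.Limits AlgebraicGeometry IsLocalRing Topology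
open Groth.Agent.H15.StalkLoc Groth.Agent.H99.RkTop Groth.Agent.H99.RkField
  Groth.Agent.H99.RkGen Groth.Agent.H49.SmoothFibreConstr Groth.Agent.H99.FieldDim
  Groth.Agent.H49.FibreStalk Groth.Agent.H99.FibLocProp Groth.Agent.H99.SkField
  Groth.Agent.H99.FibEqui

namespace Groth.Agent.H58.SkOpen

section DVR

variable (V : Type u) [CommRing V] [IsDomain V] [IsDiscreteValuationRing V] {Z : Scheme.{u}}
  (g : Z ⟶ Spec (CommRingCat.of V))

/-- the image of the uniformizer lies in the prime of a generization in the closed fibre. -/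
theorem rho_mem_genPrime {z t : Z} (ht : t ⤳ z) (ϖ : V) (hϖt : ϖ ∈ (g t).asIdeal) :
    rho V g z ϖ ∈ genPrime ht := by
  rw [mem_genPrime_iff, stalkSpecializes_rho V g ht]
  have := rho_mem_maximalIdeal V g t ϖ hϖt
  rwa [IsLocalRing.mem_maximalIdeal, mem_nonunits_iff] at this

/-- every generization `ξ` of `z` has an immediate specialization `ζ` in the closed fibre which
generizes `z`. -/
theorem exists_immediate_closed [LocallyOfFiniteType g] (ϖ : V) (hϖ : Irreducible ϖ) (z ξ : Z)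
    (hξz : ξ ⤳ z) (hz : (g z).asIdeal = maximalIdeal V) :
    ∃ (ζ : Z) (hζ : ζ ⤳ z), ξ ⤳ ζ ∧ (g ζ).asIdeal = maximalIdeal V ∧
      genPrime hζ ∈ (genPrime hξz ⊔ Ideal.span {rho V g z ϖ}).minimalPrimes ∧
      (∀ t : Z, ξ ⤳ t → t ⤳ ζ → t = ξ ∨ t = ζ) := by
  haveI : IsLocallyNoetherian Z := LocallyOfFiniteType.isLocallyNoetherian g
  have hmax : maximalIdeal V = Ideal.span {ϖ} := hϖ.maximalIdeal_eq
  set τ : Z.presheaf.stalk z := rho V g z ϖ with hτ
  have hϖz : ϖ ∈ (g z).asIdeal := by rw [hz, hmax]; exact Ideal.mem_span_singleton_self ϖ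
  have hτm : τ ∈ maximalIdeal (Z.presheaf.stalk z) := rho_mem_maximalIdeal V g z ϖ hϖz
  have hne : genPrime hξz ⊔ Ideal.span {τ} ≠ ⊤ := by
    intro htop
    have hle : genPrime hξz ⊔ Ideal.span {τ} ≤ maximalIdeal (Z.presheaf.stalk z) :=
      sup_le (IsLocalRing.le_maximalIdeal (Ideal.IsPrime.ne_top inferInstance))
        ((Ideal.span_singleton_le_iff_mem _).mpr hτm)
    exact (Ideal.IsPrime.ne_top (inferInstance : (maximalIdeal (Z.presheaf.stalk z)).IsPrime))
      (top_le_iff.mp (htop ▸ hle))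
  obtain ⟨Q₁, hQ₁⟩ := Ideal.nonempty_minimalPrimes hne
  haveI : Q₁.IsPrime := hQ₁.1.1
  have hτQ₁ : τ ∈ Q₁ := hQ₁.1.2 (le_sup_right (a := genPrime hξz) (Ideal.subset_span rfl))
  obtain ⟨ζ, hζ, hgen⟩ := exists_genPrime_eq z Q₁
  subst hgen
  have hξζ : ξ ⤳ ζ := specializes_of_genPrime_le hξz hζ (le_sup_left.trans hQ₁.1.2)
  have hϖζ : ϖ ∈ (g ζ).asIdeal := by
    by_contra hnm
    have hu := isUnit_rho_of_notMem V g ζ ϖ hnm
    rw [← stalkSpecializes_rho V g hζ] at hu
    have h4 : τ ∉ genPrime hζ := by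
      rw [mem_genPrime_iff, not_not]; exact hu
    exact h4 hτQ₁
  have hgζ : (g ζ).asIdeal = maximalIdeal V := asIdeal_eq_of_mem V g ζ ϖ hϖ hϖζ
  refine ⟨ζ, hζ, hξζ, hgζ, hQ₁, ?_⟩
  intro t h1 h2
  have hT1 : genPrime hξz ≤ genPrime (h2.trans hζ) := genPrime_mono h1 (h2.trans hζ)
  have hT2 : genPrime (h2.trans hζ) ≤ genPrime hζ := genPrime_mono h2 hζ
  rcases eq_or_eq_of_between τ (genPrime hξz) (genPrime hζ) (genPrime (h2.trans hζ)) hQ₁ hT1 hT2
    with h | h
  · left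
    have : t ⤳ ξ := specializes_of_genPrime_le (h2.trans hζ) hξz h.le
    exact (this.antisymm h1).eq
  · right
    have : ζ ⤳ t := specializes_of_genPrime_le hζ (h2.trans hζ) h.ge
    exact (h2.antisymm this).eq

/-- under `(S_1)` of the closed fibre, such a `ζ` is a maximal point of the closed fibre when `ξ`
is a maximal point of `Z`. -/
theorem fibMax_of_immediate [Flat g] [LocallyOfFiniteType g] (ϖ : V) (hϖ : Irreducible ϖ)
    (z ξ ζ : Z) (hξz : ξ ⤳ z) (hζ : ζ ⤳ z) (hz : (g z).asIdeal = maximalIdeal V)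
    (hgζ : (g ζ).asIdeal = maximalIdeal V)
    (hmin : genPrime hζ ∈ (genPrime hξz ⊔ Ideal.span {rho V g z ϖ}).minimalPrimes)
    (hξmax : ∀ ξ' : Z, ξ' ⤳ ξ → ξ' = ξ)
    (hS : FibP (HasSkSelf 1) g z) : FibMax g ζ := by
  haveI : IsLocallyNoetherian Z := LocallyOfFiniteType.isLocallyNoetherian g
  have hmax : maximalIdeal V = Ideal.span {ϖ} := hϖ.maximalIdeal_eq
  set τ : Z.presheaf.stalk z := rho V g z ϖ with hτ
  have hτreg : IsSMulRegular (Z.presheaf.stalk z) τ := isSMulRegular_rho V g z ϖ hϖ.ne_zero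
  have hSk : LocCoh.HasSk 1 (Z.presheaf.stalk z ⧸ Ideal.span {τ})
      (Z.presheaf.stalk z ⧸ Ideal.span {τ}) := by
    have hP := isLocProp_hasSkSelf.{u} 1
    rw [fibP_iff_quotient hP] at hS
    have hI : fibreIdeal g z = Ideal.span {τ} := fibreIdeal_of_closed V g z ϖ hϖ hz
    have h3 : HasSkSelf 1 (Z.presheaf.stalk z ⧸ Ideal.span {τ}) :=
      hP.iso (Ideal.quotEquivOfEq hI) hS
    exact h3
  have hP : genPrime hξz ∈ minimalPrimes (Z.presheaf.stalk z) :=
    genPrime_mem_minimalPrimes hξz hξmax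
  have h1 := mem_minimalPrimes_span_of_S1 τ hτreg _ _ hmin hP hSk
  intro t hgt ht
  have hϖt : ϖ ∈ (g t).asIdeal := by
    rw [hgt, hgζ, hmax]; exact Ideal.mem_span_singleton_self ϖ
  have hτT : τ ∈ genPrime (ht.trans hζ) := rho_mem_genPrime V g (ht.trans hζ) ϖ hϖt
  have hT2 : genPrime (ht.trans hζ) ≤ genPrime hζ := genPrime_mono ht hζ
  have hge : genPrime hζ ≤ genPrime (ht.trans hζ) :=
    h1.2 ⟨inferInstance, (Ideal.span_singleton_le_iff_mem _).mpr hτT⟩ hT2
  have : ζ ⤳ t := specializes_of_genPrime_le hζ (ht.trans hζ) hge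
  exact (ht.antisymm this).eq

variable [LocallyOfFiniteType g]

/-- the fibre dimensions of a point of the generic fibre and of an immediate specialization in the
closed fibre agree. -/
theorem fdim_eq_of_immediate (ξ ζ : Z) (hξ : (g ξ).asIdeal = ⊥)
    (hζ : (g ζ).asIdeal = maximalIdeal V) (hsp : ξ ⤳ ζ)
    (himm : ∀ t : Z, ξ ⤳ t → t ⤳ ζ → t = ξ ∨ t = ζ) : fdim g ξ = fdim g ζ := by
  rw [fdim_eq_deltaZ, fdim_eq_deltaZ, deltaV_of_bot V _ hξ, deltaV_of_max V _ hζ]
  have hne : ξ ≠ ζ := by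
    rintro rfl
    exact IsDiscreteValuationRing.not_a_field V (hζ.symm.trans hξ)
  have := ((isDimFunZ g) ξ ζ hsp hne).2 himm
  rw [this]
  simp

/-- a maximal point of the generic fibre is a maximal point of `Z`. -/
theorem eq_of_specializes_of_fibMax_generic (w : Z) (hw : (g w).asIdeal = ⊥) (hmax : FibMax g w)
    (w' : Z) (h : w' ⤳ w) : w' = w := by
  refine hmax w' ?_ h
  have h1 : g w' ⤳ g w := h.map g.continuous
  have h2 : (g w').asIdeal ≤ (g w).asIdeal := (PrimeSpectrum.le_iff_specializes _ _).mpr h1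
  apply PrimeSpectrum.ext
  rw [hw] at h2 ⊢
  exact le_bot_iff.mp h2

/-- **The DVR step.** -/
theorem equiQ_generizes_over_dvr [Flat g] (k : ℕ) (z z' : Z) (h : z' ⤳ z)
    (hz : (g z).asIdeal = maximalIdeal V) (hz' : (g z').asIdeal = ⊥)
    (hR : PrRk k g z) (hE : FibEqui g z) (hS : FibP (HasSkSelf 1) g z) :
    PrRk k g z' ∧ FibEqui g z' ∧ FibP (HasSkSelf 1) g z' := by
  haveI : IsLocallyNoetherian Z := LocallyOfFiniteType.isLocallyNoetherian g
  haveI : IsLocallyNoetherian (Spec (CommRingCat.of V)) := inferInstance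
  haveI : LocallyOfFinitePresentation g := inferInstance
  obtain ⟨ϖ, hϖ⟩ := IsDiscreteValuationRing.exists_irreducible V
  obtain ⟨e, he⟩ := hE
  have hclosed : ∀ t : Z, (g t).asIdeal = maximalIdeal V → g t = g z := fun t ht =>
    PrimeSpectrum.ext (ht.trans hz.symm)
  have hgeneric : ∀ t : Z, g t = g z' → (g t).asIdeal = ⊥ := fun t ht => by rw [ht]; exact hz'
  -- the closed fibre: maximal points have `fdim = e`
  have hE0 : ∀ v : Z, v ⤳ z → (g v).asIdeal = maximalIdeal V → FibMax g v →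
      fdim g v = ((e : ℕ) : WithBot ℕ∞) := by
    intro v hv hgv hvmax
    have := he v hv (hclosed v hgv) hvmax
    rwa [fibreDimAt_of_fibMax g v hvmax] at this
  -- the generic fibre: maximal points have `fdim = e`
  have key : ∀ w : Z, w ⤳ z → (g w).asIdeal = ⊥ → FibMax g w →
      fdim g w = ((e : ℕ) : WithBot ℕ∞) := by
    intro w hwz hgw hwmax
    obtain ⟨ζ, hζ, hwζ, hgζ, hmin, himm⟩ := exists_immediate_closed V g ϖ hϖ z w hwz hz
    have hζmax := fibMax_of_immediate V g ϖ hϖ z w ζ hwz hζ hz hgζ hmin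
      (eq_of_specializes_of_fibMax_generic V g w hgw hwmax) hS
    rw [fdim_eq_of_immediate V g w ζ hgw hgζ hwζ himm]
    exact hE0 ζ hζ hgζ hζmax
  refine ⟨?_, ?_, fibP_hasSk_generizes_over_dvr V g 1 z z' h hz hz' hS⟩
  · intro ξ hξ hgξ hns
    have hgξ0 := hgeneric ξ hgξ
    obtain ⟨ζ, hζ, hξζ, hgζ, hmin, himm⟩ :=
      exists_immediate_closed V g ϖ hϖ z ξ (hξ.trans h) hz
    have hnsζ : ¬ FibSm g ζ := by
      intro hsm
      apply hns
      rw [fibSm_iff_mem_smoothLocus] at hsm ⊢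
      exact hξζ.mem_open g.smoothLocus.isOpen hsm
    obtain ⟨v, hv, hgv, hle⟩ := hR ζ hζ (hclosed ζ hgζ) hnsζ
    obtain ⟨v₀, hv₀, hgv₀, hv₀max⟩ := exists_fibMax_specializes g v
    have h1 : fdim g v ≤ fdim g v₀ := fdim_mono g hv₀ hgv₀
    have h2 : fdim g v₀ = ((e : ℕ) : WithBot ℕ∞) :=
      hE0 v₀ (hv₀.trans (hv.trans hζ)) (by rw [hgv₀, hgv]; exact hgζ) hv₀max
    obtain ⟨w, hw, hgw, hwmax⟩ := exists_fibMax_specializes g ξ
    have h3 : fdim g w = ((e : ℕ) : WithBot ℕ∞) :=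
      key w (hw.trans (hξ.trans h)) (by rw [hgw]; exact hgξ0) hwmax
    refine ⟨w, hw, hgw, ?_⟩
    rw [fdim_eq_of_immediate V g ξ ζ hgξ0 hgζ hξζ himm, h3, ← h2]
    exact hle.trans h1
  · refine ⟨e, fun w hw hgw hwmax => ?_⟩
    rw [fibreDimAt_of_fibMax g w hwmax]
    exact key w (hw.trans h) (hgeneric w hgw) hwmax

end DVR

end Groth.Agent.H58.SkOpen
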