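import Mathlib
import Groth.Prelude.Def_CAlg
import Groth.Prelude.Def_EGA4b
import Groth.Agent.H58.GenDepth.Loci
import Groth.Agent.H58.X72.DepthLocIneq
import Groth.Agent.H29.SkAt
import Groth.Agent.H29.CodepthLocusQuot

/-!
# `(S_k)` generizes away from a regular element (helper58; for S2551)

`C` Noetherian, `t ∈ C` a nonzerodivisor.  If `C/tC` satisfies `(S_k)` (at a prime `Q₁ ∋ t` minimal over
`Q + tC`), then `C_Q` satisfies the `(S_k)` inequality at `Q` for primes `Q ∌ t`.  Consequently, for `C`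
local with `t` in the maximal ideal: `C/tC` is `(S_k)` ⇒ `C_P` is `(S_k)` for every prime `P ∌ t`.
-/

set_option autoImplicit false
set_option linter.unusedSectionVars false
set_option linter.style.haveILetI false
universe u

open IsLocalRing Groth.Agent.H58.GenDepth Groth.Agent.H29.SkAt

namespace Groth.Agent.H58.SkOpen

variable {C : Type u} [CommRing C] [IsNoetherianRing C]

/-- invariance of `dm`, `dep` under linear equivalences. -/
theorem dm_dep_of_linearEquiv {N N' : Type u} [AddCommGroup N] [Module C N] [AddCommGroup N']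
    [Module C N'] (e : N ≃ₗ[C] N') (q : Ideal C) [q.IsPrime] :
    dm N q = dm N' q ∧ dep N q = dep N' q := by
  let e' : LocalizedModule q.primeCompl N ≃ₗ[Localization.AtPrime q]
      LocalizedModule q.primeCompl N' :=
    IsLocalizedModule.mapEquiv q.primeCompl (LocalizedModule.mkLinearMap q.primeCompl N)
      (LocalizedModule.mkLinearMap q.primeCompl N') (Localization.AtPrime q) e
  refine ⟨Module.supportDim_eq_of_equiv e', ?_⟩
  unfold dep LocCoh.depth
  exact Groth.Agent.H15.idealDepth_congr e' _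

/-- `dim C_Q = ht Q`. -/
theorem dm_self (q : Ideal C) [q.IsPrime] : dm C q = ((q.height : ℕ∞) : WithBot ℕ∞) := by
  unfold dm
  rw [Module.supportDim_eq_of_equiv (selfEquiv C q.primeCompl).symm,
    Module.supportDim_self_eq_ringKrullDim,
    IsLocalization.AtPrime.ringKrullDim_eq_height q (Localization.AtPrime q)]

/-- the height-one step. -/
theorem height_map_mk_le_one (t : C) (Q Q₁ : Ideal C) [Q.IsPrime] [Q₁.IsPrime]
    (hmin : Q₁ ∈ (Q ⊔ Ideal.span {t}).minimalPrimes) :
    (Q₁.map (Ideal.Quotient.mk Q)).height ≤ 1 := by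
  have hsurj : Function.Surjective (Ideal.Quotient.mk Q) := Ideal.Quotient.mk_surjective
  have hcomap : (Ideal.span {Ideal.Quotient.mk Q t}).comap (Ideal.Quotient.mk Q) =
      Q ⊔ Ideal.span {t} := by
    rw [← Set.image_singleton, ← Ideal.map_span, Ideal.comap_map_of_surjective _ hsurj,
      ← RingHom.ker_eq_comap_bot, Ideal.mk_ker, sup_comm]
  have h1 : Q₁ ∈ ((Ideal.span {Ideal.Quotient.mk Q t}).comap (Ideal.Quotient.mk Q)).minimalPrimes := by
    rw [hcomap]; exact hmin
  rw [Ideal.comap_minimalPrimes_eq_of_surjective hsurj] at h1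
  obtain ⟨qb, hqb, rfl⟩ := h1
  rw [Ideal.map_comap_of_surjective _ hsurj]
  exact Ideal.height_le_one_of_isPrincipal_of_mem_minimalPrimes _ qb hqb

/-- **Key step.** -/
theorem skCond_of_quot (k : ℕ) (t : C) (hreg : IsSMulRegular C t) (Q Q₁ : Ideal C) [Q.IsPrime]
    [Q₁.IsPrime] (htQ : t ∉ Q) (hmin : Q₁ ∈ (Q ⊔ Ideal.span {t}).minimalPrimes)
    (hS : SkCond k C (QuotSMulTop t C) Q₁) : SkCond k C C Q := by
  have hQQ₁ : Q ≤ Q₁ := le_sup_left.trans hmin.1.2
  have htQ₁ : t ∈ Q₁ := hmin.1.2 (le_sup_right (a := Q) (Ideal.subset_span rfl))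
  have hlt : Q < Q₁ := lt_of_le_of_ne hQQ₁ (fun h => htQ (h ▸ htQ₁))
  -- depth
  have h1 : dep (QuotSMulTop t C) Q₁ + 1 = dep C Q₁ :=
    dep_quot_add_one C Q₁ t htQ₁ (isSMulRegular_localized C Q₁ t hreg)
  have h3 : dep C Q₁ ≤ dep C Q + 1 := by
    have := Groth.Agent.H58.X72.DepthLocIneq.depth_localization_le C Q Q₁ hQQ₁
    refine this.trans (add_le_add le_rfl ?_)
    exact height_map_mk_le_one t Q Q₁ hmin
  have hdep : dep (QuotSMulTop t C) Q₁ ≤ dep C Q := by
    have : dep (QuotSMulTop t C) Q₁ + 1 ≤ dep C Q + 1 := h1.le.trans h3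
    exact (ENat.add_le_add_iff_right ENat.one_ne_top).mp this
  -- dimension
  have h2 : dm C Q₁ ≤ dm (QuotSMulTop t C) Q₁ + 1 := dm_le_dm_quot_add_one C Q₁ t htQ₁
  have h4 : dm C Q + 1 ≤ dm C Q₁ := by
    rw [dm_self, dm_self]
    have := Ideal.height_add_one_le_of_lt_of_isPrime hlt
    exact_mod_cast this
  have hdm : dm C Q ≤ dm (QuotSMulTop t C) Q₁ := by
    have h5 : dm C Q + 1 ≤ dm (QuotSMulTop t C) Q₁ + 1 := h4.trans h2
    rw [dm_self] at h5 ⊢
    generalize dm (QuotSMulTop t C) Q₁ = e at h5 ⊢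
    generalize Q.height = h at h5 ⊢
    induction e using WithBot.recBotCoe with
    | bot => simp at h5
    | coe e =>
      have h6 : ((h + 1 : ℕ∞) : WithBot ℕ∞) ≤ ((e + 1 : ℕ∞) : WithBot ℕ∞) := by
        push_cast; exact h5
      rw [WithBot.coe_le_coe] at h6 ⊢
      exact (ENat.add_le_add_iff_right ENat.one_ne_top).mp h6
  unfold SkCond at hS ⊢
  calc min (k : WithBot ℕ∞) (dm C Q) ≤ min (k : WithBot ℕ∞) (dm (QuotSMulTop t C) Q₁) :=
        min_le_min le_rfl hdm
    _ ≤ ((dep (QuotSMulTop t C) Q₁ : ℕ∞) : WithBot ℕ∞) := hS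
    _ ≤ ((dep C Q : ℕ∞) : WithBot ℕ∞) := WithBot.coe_le_coe.mpr hdep

end Groth.Agent.H58.SkOpen
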