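import Groth.Agent.H58.SkOpen.Alg
import Groth.Agent.H58.DualSch.SkTransfer

/-!
# `(S_k)` generizes away from a regular element: local form (helper58; for S2551)
-/

set_option autoImplicit false
set_option linter.unusedSectionVars false
set_option linter.style.haveILetI false
universe u

open IsLocalRing Groth.Agent.H58.GenDepth Groth.Agent.H29.SkAt

namespace Groth.Agent.H58.SkOpen

variable {C : Type u} [CommRing C] [IsNoetherianRing C]

/-- `C/tC` as a quotient module. -/
noncomputable def quotSpanEquiv (t : C) : QuotSMulTop t C ≃ₗ[C] C ⧸ Ideal.span {t} :=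
  Submodule.quotEquivOfEq _ _ (by
    rw [← Submodule.ideal_span_singleton_smul]
    exact Ideal.mul_top _)

theorem mem_support_self (I : Ideal C) (q : PrimeSpectrum (C ⧸ I)) :
    q ∈ Module.support (C ⧸ I) (C ⧸ I) := by
  rw [Module.support_of_algebra, PrimeSpectrum.mem_zeroLocus]
  intro x hx
  have h0 : x = 0 := by simpa using hx
  rw [h0]
  exact Ideal.zero_mem _

/-- `(S_k)` of the ring `C/tC` gives the single-prime conditions for the `C`-module `C/tC`. -/
theorem skCond_quot_of_hasSk (k : ℕ) (t : C)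
    (hS : LocCoh.HasSk k (C ⧸ Ideal.span {t}) (C ⧸ Ideal.span {t})) (Q₁ : Ideal C) [Q₁.IsPrime]
    (htQ₁ : t ∈ Q₁) : SkCond k C (QuotSMulTop t C) Q₁ := by
  have hle : Ideal.span {t} ≤ Q₁ := (Ideal.span_singleton_le_iff_mem _).mpr htQ₁
  have hsurj : Function.Surjective (algebraMap C (C ⧸ Ideal.span {t})) :=
    Ideal.Quotient.mk_surjective
  haveI hpb : (Q₁.map (Ideal.Quotient.mk (Ideal.span {t}))).IsPrime :=
    Ideal.map_isPrime_of_surjective Ideal.Quotient.mk_surjective (by rwa [Ideal.mk_ker])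
  let pb : PrimeSpectrum (C ⧸ Ideal.span {t}) := ⟨Q₁.map (Ideal.Quotient.mk (Ideal.span {t})), hpb⟩
  have hcomap : pb.asIdeal.comap (algebraMap C (C ⧸ Ideal.span {t})) = Q₁ :=
    comap_map_mk_of_le (Ideal.span {t}) Q₁ hle
  have h1 := hS pb.asIdeal
  rw [← Groth.Agent.H29.CodepthLocusQuot.supportDim_eq C (C ⧸ Ideal.span {t}) hsurj pb
      (mem_support_self _ pb),
    ← Groth.Agent.H29.CodepthLocusQuot.depth_eq C (C ⧸ Ideal.span {t}) hsurj pb
      (mem_support_self _ pb)] at h1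
  have h2 : SkCond k C (C ⧸ Ideal.span {t}) Q₁ :=
    (skCond_congr k C (C ⧸ Ideal.span {t}) hcomap.symm).mpr h1
  obtain ⟨e1, e2⟩ := dm_dep_of_linearEquiv (quotSpanEquiv t) Q₁
  unfold SkCond at h2 ⊢
  change min (k : WithBot ℕ∞) (dm (QuotSMulTop t C) Q₁) ≤ ((dep (QuotSMulTop t C) Q₁ : ℕ∞) : WithBot ℕ∞)
  rw [e1, e2]
  exact h2

/-- **Local form**: `C` Noetherian local, `t` a nonzerodivisor in the maximal ideal, `C/tC` is `(S_k)`.
Then `C_P` is `(S_k)` for every prime `P` not containing `t`. -/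
theorem hasSk_localization_of_quot [IsLocalRing C] (k : ℕ) (t : C) (ht : t ∈ maximalIdeal C)
    (hreg : IsSMulRegular C t)
    (hS : LocCoh.HasSk k (C ⧸ Ideal.span {t}) (C ⧸ Ideal.span {t})) (P : Ideal C) [P.IsPrime]
    (htP : t ∉ P) : LocCoh.HasSk k (Localization.AtPrime P) (Localization.AtPrime P) := by
  have hAt : EGA4.HasSkAt k C C P := by
    rw [hasSkAt_iff]
    intro Q _ hQP
    have htQ : t ∉ Q := fun h => htP (hQP h)
    have hne : Q ⊔ Ideal.span {t} ≠ ⊤ := by
      intro htop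
      have hle : Q ⊔ Ideal.span {t} ≤ maximalIdeal C :=
        sup_le (IsLocalRing.le_maximalIdeal (Ideal.IsPrime.ne_top inferInstance))
          ((Ideal.span_singleton_le_iff_mem _).mpr ht)
      exact (Ideal.IsPrime.ne_top (inferInstance : (maximalIdeal C).IsPrime))
        (top_le_iff.mp (htop ▸ hle))
    obtain ⟨Q₁, hQ₁⟩ := Ideal.nonempty_minimalPrimes hne
    haveI : Q₁.IsPrime := hQ₁.1.1
    have htQ₁ : t ∈ Q₁ := hQ₁.1.2 (le_sup_right (a := Q) (Ideal.subset_span rfl))
    exact skCond_of_quot k t hreg Q Q₁ htQ hQ₁ (skCond_quot_of_hasSk k t hS Q₁ htQ₁)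
  unfold EGA4.HasSkAt at hAt
  exact Groth.Agent.H58.DualSch.hasSk_of_semilinear k
    (RingEquiv.refl (Localization.AtPrime P))
    (selfEquiv C P.primeCompl).symm.toAddEquiv
    (fun r m => (selfEquiv C P.primeCompl).symm.map_smul r m) hAt

end Groth.Agent.H58.SkOpen
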