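import Groth.Agent.H58.SkOpen.General
import Groth.Agent.H58.SkOpen.AlgLocal
import Groth.Agent.H99.CodepthFib
import Groth.Agent.H29.LocSelf
import Groth.Agent.S0386

/-!
# The codepth of the fibres of a flat morphism is upper semicontinuous (helper58; S5922)
-/

set_option autoImplicit false
set_option linter.unusedSectionVars false
set_option linter.style.haveILetI false
universe u

open CategoryTheory CategoryTheory.Limits AlgebraicGeometry IsLocalRing Topology
open Groth.Agent.H99.FibLocProp Groth.Agent.H99.CodepthProp Groth.Agent.H58.GenDepth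

namespace Groth.Agent.H58.SkOpen

variable {C : Type u} [CommRing C] [IsNoetherianRing C] [IsLocalRing C]

theorem map_mk_maximalIdeal (I : Ideal C) (hI : I ≤ maximalIdeal C) [IsLocalRing (C ⧸ I)] :
    (maximalIdeal C).map (Ideal.Quotient.mk I) = maximalIdeal (C ⧸ I) := by
  have hsurj : Function.Surjective (Ideal.Quotient.mk I) := Ideal.Quotient.mk_surjective
  rcases Ideal.map_eq_top_or_isMaximal_of_surjective (Ideal.Quotient.mk I) hsurj
    (maximalIdeal.isMaximal C) with h | h
  · exfalso
    have h1 : ((maximalIdeal C).map (Ideal.Quotient.mk I)).comap (Ideal.Quotient.mk I) = ⊤ := by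
      rw [h, Ideal.comap_top]
    rw [comap_map_mk_of_le I (maximalIdeal C) hI] at h1
    exact (maximalIdeal.isMaximal C).ne_top h1
  · exact IsLocalRing.eq_maximalIdeal h

/-- depth drops by one modulo a regular element, ring form. -/
theorem depth_quot_span_add_one (t : C) (ht : t ∈ maximalIdeal C) (hreg : IsSMulRegular C t)
    [IsLocalRing (C ⧸ Ideal.span {t})] :
    LocCoh.depth (C ⧸ Ideal.span {t}) (C ⧸ Ideal.span {t}) + 1 = LocCoh.depth C C := by
  rw [← Groth.Agent.H29.CML.depth_quotSMulTop_add_one C t ht hreg]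
  congr 1
  unfold LocCoh.depth
  rw [Groth.Agent.H15.idealDepth_congr (quotSpanEquiv t) _,
    Groth.Agent.H58.X72.DepthFinite.idealDepth_eq_idealDepth_map (B := C ⧸ Ideal.span {t})
      (maximalIdeal C) (C ⧸ Ideal.span {t})]
  congr 1
  exact (map_mk_maximalIdeal (Ideal.span {t}) ((Ideal.span_singleton_le_iff_mem _).mpr ht)).symm

/-- **the ring step for the codepth.** -/
theorem ringStep_codepthLE (n : ℕ) : RingStep (CodepthLE.{u} n) := by
  intro C _ _ _ t ht hreg hS Q _ _
  have hle : Ideal.span {t} ≤ maximalIdeal C := (Ideal.span_singleton_le_iff_mem _).mpr ht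
  haveI : Nontrivial (C ⧸ Ideal.span {t}) :=
    Ideal.Quotient.nontrivial_iff.mpr (fun h => (maximalIdeal.isMaximal C).ne_top
      (top_le_iff.mp (h ▸ hle)))
  haveI : IsLocalRing (C ⧸ Ideal.span {t}) :=
    IsLocalRing.of_surjective' (Ideal.Quotient.mk (Ideal.span {t})) Ideal.Quotient.mk_surjective
  haveI : IsNoetherianRing (Localization.AtPrime Q) :=
    IsLocalization.isNoetherianRing Q.primeCompl _ inferInstance
  -- numerical data
  obtain ⟨d₀, e₀, hd₀, he₀, -⟩ := exists_dim_depth (C ⧸ Ideal.span {t})
  obtain ⟨d, e, hd, he, -⟩ := exists_dim_depth C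
  obtain ⟨dQ, eQ, hdQ, heQ, -⟩ := exists_dim_depth (Localization.AtPrime Q)
  have h0 : d₀ ≤ e₀ + n := (codepthLE_iff_of_eq n _ d₀ e₀ hd₀ he₀).mp hS
  rw [codepthLE_iff_of_eq n _ dQ eQ hdQ heQ]
  -- quotient by `t`
  have h1 : d₀ + 1 = d := by
    have := ringKrullDim_quotient_span_singleton_succ_eq_ringKrullDim hreg ht
    rw [hd₀, hd] at this
    exact_mod_cast this
  have h2 : e₀ + 1 = e := by
    have := depth_quot_span_add_one t ht hreg
    rw [he₀, he] at this
    exact_mod_cast this
  -- localization at `Q`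
  have hQm : Q ≤ maximalIdeal C := IsLocalRing.le_maximalIdeal (Ideal.IsPrime.ne_top inferInstance)
  obtain ⟨h, hh⟩ : ∃ h : ℕ, ((maximalIdeal C).map (Ideal.Quotient.mk Q)).height = (h : ℕ∞) := by
    haveI : ((maximalIdeal C).map (Ideal.Quotient.mk Q)).IsPrime :=
      Ideal.map_isPrime_of_surjective Ideal.Quotient.mk_surjective (by rwa [Ideal.mk_ker])
    exact ENat.ne_top_iff_exists.mp (Ideal.height_ne_top (Ideal.IsPrime.ne_top inferInstance))
      |>.imp fun h hh => hh.symm
  have h3 : dQ + h ≤ d := by
    have hN : Nontrivial (LocalizedModule Q.primeCompl C) := by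
      have : Nontrivial (Localization.AtPrime Q) := inferInstance
      exact (selfEquiv C Q.primeCompl).symm.toEquiv.nontrivial
    have := dm_add_le Q C hN (maximalIdeal C) hQm
    rw [dm_quot_eq_height Q (maximalIdeal C) hQm, hh, dm_self, dm_self,
      IsLocalRing.maximalIdeal_height_eq_ringKrullDim, hd] at this
    have hq : ((Q.height : ℕ∞) : WithBot ℕ∞) = (dQ : WithBot ℕ∞) := by
      rw [← hdQ, IsLocalization.AtPrime.ringKrullDim_eq_height Q (Localization.AtPrime Q)]
    rw [hq] at this
    exact_mod_cast this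
  have h4 : e ≤ eQ + h := by
    have := Groth.Agent.H58.X72.DepthLocIneq.depth_localization_le C Q (maximalIdeal C) hQm
    rw [Groth.Agent.H29.LocSelf.depth_localization_maximalIdeal C C, he, hh,
      Groth.Agent.H14.depth_localizedModule_self Q] at this
    have heQ' : LocCoh.idealDepth (maximalIdeal (Localization.AtPrime Q))
        (Localization.AtPrime Q) = (eQ : ℕ∞) := heQ
    rw [heQ'] at this
    exact_mod_cast this
  omega

end Groth.Agent.H58.SkOpen
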