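import Groth.Agent.H58.SkOpen.Open
import Groth.Agent.S0386

/-!
# Corollaries of the openness of the fibrewise `(S_k)` locus (helper58; S4962, S2555)
-/

set_option autoImplicit false
set_option linter.unusedSectionVars false
set_option linter.style.haveILetI false
universe u

open CategoryTheory CategoryTheory.Limits AlgebraicGeometry IsLocalRing Topology
open Groth.Agent.H99.FibLocProp Groth.Agent.H99.SkField

namespace Groth.Agent.H58.SkOpen

theorem hasSkSelf_iff (k : ℕ) (R : Type u) [CommRing R] [IsNoetherianRing R] :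
    HasSkSelf k R ↔ LocCoh.HasSk k R R :=
  ⟨fun h => h, fun h _ => h⟩

/-- S4962: flat locus ∩ fibrewise `(S_k)` locus is open. -/
theorem main4962 {X Y : Scheme.{u}} (f : X ⟶ Y) [LocallyOfFinitePresentation f] (k : ℕ) :
    IsOpen {x : X | (f.stalkMap x).hom.Flat ∧
      LocCoh.HasSk k ((f.fiber (f.base x)).presheaf.stalk (f.asFiber x))
        ((f.fiber (f.base x)).presheaf.stalk (f.asFiber x))} := by
  have hP := isLocProp_hasSkSelf.{u} k
  let W : X.Opens := ⟨{x : X | (f.stalkMap x).hom.Flat}, Groth.Agent.S0386.result f⟩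
  haveI hflat : Flat (W.ι ≫ f) := by
    rw [Flat.iff_flat_stalkMap]
    intro w
    have e : ((W.ι ≫ f).stalkMap w).hom =
        (W.ι.stalkMap w).hom.comp (f.stalkMap (W.ι w)).hom :=
      congrArg CommRingCat.Hom.hom (Scheme.Hom.stalkMap_comp W.ι f w)
    rw [e]
    refine RingHom.Flat.comp (w.2 : (f.stalkMap (W.ι w)).hom.Flat) ?_
    exact RingHom.Flat.of_bijective (ConcreteCategory.bijective_of_isIso (W.ι.stalkMap w))
  have hopen := isOpen_fibHasSk (W.ι ≫ f) k
  have hset : {x : X | (f.stalkMap x).hom.Flat ∧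
      LocCoh.HasSk k ((f.fiber (f.base x)).presheaf.stalk (f.asFiber x))
        ((f.fiber (f.base x)).presheaf.stalk (f.asFiber x))} =
      W.ι '' {w : (W : Scheme.{u}) | FibP (HasSkSelf k) (W.ι ≫ f) w} := by
    ext x
    constructor
    · rintro ⟨h1, h2⟩
      refine ⟨⟨x, h1⟩, ?_, rfl⟩
      rw [Set.mem_ofPred_eq, fibP_openImm hP W.ι f ⟨x, h1⟩, fibP_hasSkSelf_iff f k]
      exact h2
    · rintro ⟨w, hw, rfl⟩
      refine ⟨w.2, ?_⟩
      rw [Set.mem_ofPred_eq, fibP_openImm hP W.ι f w, fibP_hasSkSelf_iff f k] at hw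
      exact hw
  rw [hset]
  exact W.ι.isOpenEmbedding.isOpenMap _ hopen

/-- S2555: for a proper flat morphism, the locus of points of the base over which all local rings of
the fibre are `(S_k)` is open. -/
theorem main2555 {X Y : Scheme.{u}} (f : X ⟶ Y) [IsProper f] [Flat f]
    [LocallyOfFinitePresentation f] (k : ℕ) :
    IsOpen {y : Y | ∀ x : ↥(f.fiber y), LocCoh.HasSk k ((f.fiber y).presheaf.stalk x)
      ((f.fiber y).presheaf.stalk x)} := by
  have hopen := main2551 f k
  set U : Set X := {x : X | LocCoh.HasSk k ((f.fiber (f.base x)).presheaf.stalk (f.asFiber x))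
      ((f.fiber (f.base x)).presheaf.stalk (f.asFiber x))} with hU
  have hcl : IsClosed (f '' Uᶜ) := f.isClosedMap _ hopen.isClosed_compl
  -- the pointwise comparison
  have key : ∀ (y : Y) (z0 : ↥(f.fiber y)),
      LocCoh.HasSk k ((f.fiber y).presheaf.stalk z0) ((f.fiber y).presheaf.stalk z0) ↔
        f.fiberι y z0 ∈ U := by
    intro y z0
    have hxy : f (f.fiberι y z0) = y := by
      have : f.fiberι y z0 ∈ Set.range (f.fiberι y) := Set.mem_range_self z0
      rw [f.range_fiberι y] at this
      exact this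
    haveI := Groth.Agent.H49.CMChart.isLocallyNoetherian_fiber f y
    haveI := Groth.Agent.H49.CMChart.isLocallyNoetherian_fiber f (f (f.fiberι y z0))
    rw [hU, Set.mem_ofPred_eq, ← hasSkSelf_iff, ← hasSkSelf_iff]
    exact fiber_stalk_iff_asFiber (P := HasSkSelf k) f (f.fiberι y z0) y hxy z0 rfl
  have hset : {y : Y | ∀ x : ↥(f.fiber y), LocCoh.HasSk k ((f.fiber y).presheaf.stalk x)
      ((f.fiber y).presheaf.stalk x)} = (f '' Uᶜ)ᶜ := by
    ext y
    constructor
    · rintro h ⟨x, hxU, hxy⟩
      have hxr : x ∈ Set.range (f.fiberι y) := by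
        rw [f.range_fiberι y]; exact hxy
      obtain ⟨z0, rfl⟩ := hxr
      exact hxU ((key y z0).mp (h z0))
    · intro h z0
      by_contra hcon
      have hxy : f (f.fiberι y z0) = y := by
        have : f.fiberι y z0 ∈ Set.range (f.fiberι y) := Set.mem_range_self z0
        rw [f.range_fiberι y] at this
        exact this
      exact h ⟨f.fiberι y z0, fun hm => hcon ((key y z0).mpr hm), hxy⟩
  rw [hset]
  exact hcl.isOpen_compl

end Groth.Agent.H58.SkOpen
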