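import Groth.Agent.H58.SkOpen.AlgLocal
import Groth.Agent.H99.SkField

/-!
# `(S_k)` of the fibres generizes from the closed to the generic fibre over a DVR
(helper58; for S2551)
-/

set_option autoImplicit false
set_option linter.unusedSectionVars false
set_option linter.style.haveILetI false
universe u

open CategoryTheory CategoryTheory.Limits AlgebraicGeometry IsLocalRing
open Groth.Agent.H99.FibLocProp Groth.Agent.H99.SkField Groth.Agent.H49.FibreStalk
  Groth.Agent.H15.StalkLoc

namespace Groth.Agent.H58.SkOpen

/-- **abstract DVR step**: if the local ring of the base at `g z` has principal maximal ideal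
generated by a nonzerodivisor `π` which becomes a unit at `g z'`, and the local ring of the base
at `g z'` is a field, then `(S_k)` of the fibre at `z` implies `(S_k)` of the fibre at the
generization `z'`, for `g` flat at `z`. -/
theorem fibP_hasSk_generizes {Z T : Scheme.{u}} (g : Z ⟶ T) [IsLocallyNoetherian Z] (k : ℕ)
    (z z' : Z) (h : z' ⤳ z) (hflat : (g.stalkMap z).hom.Flat)
    (π : T.presheaf.stalk (g z))
    (hπ : maximalIdeal (T.presheaf.stalk (g z)) = Ideal.span {π})
    (hπreg : IsSMulRegular (T.presheaf.stalk (g z)) π)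
    (hπunit : IsUnit ((T.presheaf.stalkSpecializes (g.base.hom.map_specializes h)).hom π))
    (h0 : maximalIdeal (T.presheaf.stalk (g z')) = ⊥)
    (hS : FibP (HasSkSelf k) g z) : FibP (HasSkSelf k) g z' := by
  have hP := isLocProp_hasSkSelf.{u} k
  rw [fibP_iff_quotient hP] at hS ⊢
  set τ : Z.presheaf.stalk z := (g.stalkMap z).hom π with hτ
  -- the fibre ideals
  have hI : fibreIdeal g z = Ideal.span {τ} := by
    unfold fibreIdeal
    rw [hπ, Ideal.map_span, Set.image_singleton]
  have hI' : fibreIdeal g z' = ⊥ := by
    unfold fibreIdeal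
    rw [h0, Ideal.map_bot]
  -- `τ` is in the maximal ideal
  have hτm : τ ∈ maximalIdeal (Z.presheaf.stalk z) := by
    have hπm : π ∈ maximalIdeal (T.presheaf.stalk (g z)) := by
      rw [hπ]; exact Ideal.subset_span rfl
    rw [mem_maximalIdeal, mem_nonunits_iff] at hπm ⊢
    intro hu
    have : IsLocalHom (g.stalkMap z).hom := inferInstance
    exact hπm (this.map_nonunit π hu)
  -- `τ` is a nonzerodivisor
  have hτreg : IsSMulRegular (Z.presheaf.stalk z) τ := by
    letI := (g.stalkMap z).hom.toAlgebra
    haveI : Module.Flat (T.presheaf.stalk (g z)) (Z.presheaf.stalk z) := hflat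
    exact hπreg.of_flat
  -- `τ` is not in the prime of the generization
  have hτP : τ ∉ genPrime h := by
    rw [mem_genPrime_iff, not_not, hτ]
    have := Scheme.Hom.stalkSpecializes_stalkMap_apply g z' z h π
    rw [← CommRingCat.comp_apply] at this
    change IsUnit ((Z.presheaf.stalkSpecializes h).hom ((g.stalkMap z).hom π))
    have h2 : (Z.presheaf.stalkSpecializes h).hom ((g.stalkMap z).hom π) =
        (g.stalkMap z').hom
          ((T.presheaf.stalkSpecializes (g.base.hom.map_specializes h)).hom π) :=
      (Scheme.Hom.stalkSpecializes_stalkMap_apply g z' z h π).symm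
    rw [h2]
    exact hπunit.map _
  -- apply the algebra
  haveI : IsNoetherianRing (Z.presheaf.stalk z ⧸ Ideal.span {τ}) :=
    Ideal.Quotient.isNoetherianRing _
  have hS' : LocCoh.HasSk k (Z.presheaf.stalk z ⧸ Ideal.span {τ})
      (Z.presheaf.stalk z ⧸ Ideal.span {τ}) :=
    hP.iso (Ideal.quotEquivOfEq hI) hS
  have hloc := hasSk_localization_of_quot k τ hτm hτreg hS' (genPrime h) hτP
  -- transfer to the stalk at `z'`
  letI := (Z.presheaf.stalkSpecializes h).hom.toAlgebra
  haveI := isLocalization_stalkSpecializes h
  let e : Localization.AtPrime (genPrime h) ≃+* Z.presheaf.stalk z' :=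
    (IsLocalization.algEquiv (genPrime h).primeCompl _ _).toRingEquiv
  have h1 : HasSkSelf k (Localization.AtPrime (genPrime h)) := by
    intro _
    exact hloc
  have h2 : HasSkSelf k (Z.presheaf.stalk z') := hP.iso e h1
  have h3 : HasSkSelf k (Z.presheaf.stalk z' ⧸ fibreIdeal g z') :=
    @IsLocProp.iso _ hP _ _ _ _ ((Ideal.quotEquivOfEq hI').trans (RingEquiv.quotientBot _)).symm h2
  exact @h3

end Groth.Agent.H58.SkOpen
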