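import Groth.Agent.H58.SkOpen.EquiDVR
import Groth.Agent.H99.FibEquiGen
import Groth.Agent.H99.FibrePropGen

/-!
# Openness of the locus where the fibre is geometrically `(R_k)`, equidimensional and without
embedded components (EGA IV 12.1.1 (v)-(vi) type statements; helper58; S5931, S5932)
-/

set_option autoImplicit false
set_option backward.isDefEq.respectTransparency.types false
set_option linter.unusedSectionVars false
set_option linter.style.haveILetI false
universe u

open CategoryTheory CategoryTheory.Limits AlgebraicGeometry IsLocalRing Topology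
open Groth.Agent.H99.RkTop Groth.Agent.H99.RkMain Groth.Agent.H99.FibLocProp
  Groth.Agent.H99.SkField Groth.Agent.H99.SkMain Groth.Agent.H99.FibEqui

namespace Groth.Agent.H58.SkOpen

/-- geometric `(R_k)`, equidimensionality and `(S_1)` of the fibre through a point. -/
def RkEqui (k : ℕ) : ∀ ⦃X S : Scheme.{u}⦄, (X ⟶ S) → X → Prop := fun _ _ f x =>
  PrRk k f x ∧ FibEqui f x ∧ FibP (HasSkSelf 1) f x

theorem isGoodGen_fibEqui : Groth.Agent.H99.FibrePropGen.IsGoodGen
    (fun X S f x => FibEqui.{u} f x) :=
  { baseChange := fun X S X' S' f f' g' g h hlft x' => by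
      have := hlft
      exact fibEqui_baseChange f f' g' g h x'
    openImm := fun U X S j f hj hlft u => by
      have := hj
      exact fibEqui_openImm j f u
    generic := fun X S f hN hI hlft hqc => by
      have := hN
      have := hI
      have := hlft
      have := hqc
      obtain ⟨U, hU, hO⟩ := Groth.Agent.H99.FibEquiGen.generic_isOpen f
      exact ⟨U, ⟨_, hU⟩, hO⟩ }

theorem isStableQ_fibEqui : IsStableQ (fun X S f x => FibEqui.{u} f x) :=
  ⟨isGoodGen_fibEqui.baseChange, isGoodGen_fibEqui.openImm⟩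

theorem isStableQ_rkEqui (k : ℕ) : IsStableQ (RkEqui.{u} k) :=
  (isStableQ_prRk k).and (isStableQ_fibEqui.and (isStableQ_fibP (isLocProp_hasSkSelf 1)))

theorem dvrStep_rkEqui (k : ℕ) : DVRStep (RkEqui.{u} k) := by
  intro V _ _ _ Z g _ _ z z' h hz hz' hQ
  exact equiQ_generizes_over_dvr V g k z z' h hz hz' hQ.1 hQ.2.1 hQ.2.2

theorem isLocallyConstructible_rkEqui (k : ℕ) {X S : Scheme.{u}} (f : X ⟶ S)
    [LocallyOfFinitePresentation f] : IsLocallyConstructible {x : X | RkEqui k f x} := by
  haveI : LocallyOfFiniteType f := inferInstance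
  have h2 : IsLocallyConstructible {x : X | FibEqui f x} :=
    Groth.Agent.H99.FibrePropGen.isLocallyConstructible isGoodGen_fibEqui f
  have h := (isLocallyConstructible_prRk f k).inter
    (h2.inter (isLocallyConstructible_fibHasSk f 1))
  convert h using 1
  ext x
  exact and_congr Iff.rfl (and_congr Iff.rfl (fibP_hasSkSelf_iff f 1 x))

/-- **Openness** of the `RkEqui k` locus for flat morphisms locally of finite presentation. -/
theorem isOpen_rkEqui (k : ℕ) {X S : Scheme.{u}} (f : X ⟶ S) [Flat f]
    [LocallyOfFinitePresentation f] : IsOpen {x : X | RkEqui k f x} :=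
  isOpen_q (isStableQ_rkEqui k) (dvrStep_rkEqui k)
    (fun _ _ g hg => by haveI := hg; exact isLocallyConstructible_rkEqui k g) f

/-- the frozen pointwise condition is `RkEqui k`. -/
theorem frozen_iff_rkEqui {X Y : Scheme.{u}} (f : X ⟶ Y) [LocallyOfFiniteType f] (k : ℕ) (x : X) :
    ((∀ (K : Type u) [Field K] [Algebra (IsLocalRing.ResidueField (Y.presheaf.stalk (f.base x))) K],
        Module.Finite (IsLocalRing.ResidueField (Y.presheaf.stalk (f.base x))) K →
        ∀ x' : ↥(FBase.bc (f.fiberToSpecResidueField (f.base x)) K),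
          (FBase.bcπ (f.fiberToSpecResidueField (f.base x)) K).base x' = f.asFiber x →
          LocCoh.HasRk k ((FBase.bc (f.fiberToSpecResidueField (f.base x)) K).presheaf.stalk x')) ∧
      EGA4.IsEquidim ↑((f.fiber (f.base x)).presheaf.stalk (f.asFiber x)) ∧
      (∀ p ∈ associatedPrimes ↑((f.fiber (f.base x)).presheaf.stalk (f.asFiber x))
          ↑((f.fiber (f.base x)).presheaf.stalk (f.asFiber x)),
        p ∈ minimalPrimes ↑((f.fiber (f.base x)).presheaf.stalk (f.asFiber x)))) ↔
      RkEqui k f x :=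
  and_congr (geomRkFinite_iff f k x)
    (and_congr (fibEqui_iff_isEquidim f x).symm (noEmbedded_iff f x))

/-- S5931 -/
theorem main5931 {X Y : Scheme.{u}} (f : X ⟶ Y) [Flat f]
    [LocallyOfFinitePresentation f] (k : ℕ) :
    IsOpen {x : X | (∀ (K : Type u) [Field K] [Algebra (IsLocalRing.ResidueField (Y.presheaf.stalk (f.base x))) K],
        Module.Finite (IsLocalRing.ResidueField (Y.presheaf.stalk (f.base x))) K →
        ∀ x' : ↥(FBase.bc (f.fiberToSpecResidueField (f.base x)) K),
          (FBase.bcπ (f.fiberToSpecResidueField (f.base x)) K).base x' = f.asFiber x →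
          LocCoh.HasRk k ((FBase.bc (f.fiberToSpecResidueField (f.base x)) K).presheaf.stalk x')) ∧
      EGA4.IsEquidim ↑((f.fiber (f.base x)).presheaf.stalk (f.asFiber x)) ∧ (∀ p ∈ associatedPrimes ↑((f.fiber (f.base x)).presheaf.stalk (f.asFiber x)) ↑((f.fiber (f.base x)).presheaf.stalk (f.asFiber x)), p ∈ minimalPrimes ↑((f.fiber (f.base x)).presheaf.stalk (f.asFiber x)))} := by
  haveI : LocallyOfFiniteType f := inferInstance
  have h := isOpen_rkEqui k f
  convert h using 1
  ext x
  exact frozen_iff_rkEqui f k x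

/-- transport of the frozen condition along an equality of base points. -/
theorem frozen_fibre_iff {X Y : Scheme.{u}} (f : X ⟶ Y) [LocallyOfFiniteType f] (k : ℕ)
    (x₀ : X) (y : Y) (hy : f.base x₀ = y) (x : ↥(f.fiber y)) (hx : (f.fiberι y).base x = x₀) :
    ((∀ (K : Type u) [Field K] [Algebra (IsLocalRing.ResidueField (Y.presheaf.stalk y)) K],
        Module.Finite (IsLocalRing.ResidueField (Y.presheaf.stalk y)) K →
        ∀ x' : ↥(FBase.bc (f.fiberToSpecResidueField y) K),
          (FBase.bcπ (f.fiberToSpecResidueField y) K).base x' = x →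
          LocCoh.HasRk k ((FBase.bc (f.fiberToSpecResidueField y) K).presheaf.stalk x')) ∧
      EGA4.IsEquidim ↑((f.fiber y).presheaf.stalk x) ∧
      (∀ p ∈ associatedPrimes ↑((f.fiber y).presheaf.stalk x) ↑((f.fiber y).presheaf.stalk x),
        p ∈ minimalPrimes ↑((f.fiber y).presheaf.stalk x))) ↔
      RkEqui k f x₀ := by
  subst hy
  have hxe : x = f.asFiber x₀ := by
    apply (f.fiberι (f.base x₀)).isEmbedding.injective
    rw [hx]
    exact (f.fiberι_asFiber x₀).symm
  subst hxe
  exact frozen_iff_rkEqui f k x₀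

/-- S5932 -/
theorem main5932 {X Y : Scheme.{u}} (f : X ⟶ Y) [IsProper f]
    [Flat f] [LocallyOfFinitePresentation f] (k : ℕ) :
    IsOpen {y : Y | ∀ x : ↥(f.fiber y), (∀ (K : Type u) [Field K] [Algebra (IsLocalRing.ResidueField (Y.presheaf.stalk y)) K],
        Module.Finite (IsLocalRing.ResidueField (Y.presheaf.stalk y)) K →
        ∀ x' : ↥(FBase.bc (f.fiberToSpecResidueField y) K),
          (FBase.bcπ (f.fiberToSpecResidueField y) K).base x' = x →
          LocCoh.HasRk k ((FBase.bc (f.fiberToSpecResidueField y) K).presheaf.stalk x')) ∧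
      EGA4.IsEquidim ↑((f.fiber y).presheaf.stalk x) ∧ (∀ p ∈ associatedPrimes ↑((f.fiber y).presheaf.stalk x) ↑((f.fiber y).presheaf.stalk x), p ∈ minimalPrimes ↑((f.fiber y).presheaf.stalk x))} := by
  haveI : LocallyOfFiniteType f := inferInstance
  have hopen : IsOpen {x : X | RkEqui k f x} := isOpen_rkEqui k f
  have hcl : IsClosed (f '' {x : X | RkEqui k f x}ᶜ) :=
    f.isClosedMap _ hopen.isClosed_compl
  convert hcl.isOpen_compl using 1
  ext y
  simp only [Set.mem_ofPred_eq, Set.mem_compl_iff, Set.mem_image, not_exists, not_and]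
  constructor
  · intro h x₀ hx₀ hfx₀
    apply hx₀
    refine (frozen_fibre_iff f k x₀ y hfx₀ (hfx₀ ▸ f.asFiber x₀) ?_).mp (h _)
    subst hfx₀
    exact f.fiberι_asFiber x₀
  · intro h x
    have hmap : f.base ((f.fiberι y).base x) = y := Groth.Agent.H48.CycFib.map_fiberι f y x
    refine (frozen_fibre_iff f k _ y hmap x rfl).mpr ?_
    by_contra hn
    exact h _ hn hmap

end Groth.Agent.H58.SkOpen
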