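import Groth.Agent.H58.SkOpen.FlatReducedAlg
import Groth.Agent.H58.SkOpen.RedOpen
import Groth.Agent.H99.RedFib
import Groth.Prelude.Def_FDesc

/-!
# Reducedness of the source of a flat morphism with geometrically reduced fibres, pointwise
(EGA IV 11.3.x / 12.1.x type statement; helper58; S2567)

No finiteness hypothesis on the base: the argument localizes at a minimal prime over the
annihilator of a nilpotent element and uses `eq_zero_of_flat_of_isReduced`.
-/

set_option autoImplicit false
set_option backward.isDefEq.respectTransparency.types false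
set_option linter.unusedSectionVars false
set_option linter.style.haveILetI false
universe u

open CategoryTheory CategoryTheory.Limits AlgebraicGeometry IsLocalRing Topology
open Groth.Agent.H15.StalkLoc Groth.Agent.H99.RkTop Groth.Agent.H99.RkField
  Groth.Agent.H99.RkMain Groth.Agent.H99.FibLocProp Groth.Agent.H99.SkField
  Groth.Agent.H49.FibreStalk

namespace Groth.Agent.H58.SkOpen

/-- `RkSk 0` at a point makes the local ring of the fibre reduced. -/
theorem isReduced_fibreStalk_of_rkSk {X Y : Scheme.{u}} (f : X ⟶ Y) [LocallyOfFiniteType f] (x : X)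
    (h : RkSk 0 f x) : IsReduced ((f.fiber (f.base x)).presheaf.stalk (f.asFiber x)) := by
  let κ := IsLocalRing.ResidueField (Y.presheaf.stalk (f.base x))
  let q : f.fiber (f.base x) ⟶ Spec (CommRingCat.of κ) := f.fiberToSpecResidueField (f.base x)
  haveI : LocallyOfFiniteType q :=
    inferInstanceAs (LocallyOfFiniteType (pullback.snd f (Y.fromSpecResidueField (f.base x))))
  haveI : IsLocallyNoetherian (f.fiber (f.base x)) :=
    Groth.Agent.H49.CMChart.isLocallyNoetherian_fiber f (f.base x)
  have sq1 : IsPullback (f.fiberι (f.base x)) q f (Y.fromSpecResidueField (f.base x)) :=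
    IsPullback.of_hasPullback _ _
  have e1 : PrRk 0 q (f.asFiber x) ↔ PrRk 0 f x := by
    have := prRk_baseChange f q (f.fiberι (f.base x)) (Y.fromSpecResidueField (f.base x)) sq1 0
      (f.asFiber x)
    rwa [Scheme.Hom.fiberι_asFiber] at this
  have h0 := hasRk_of_prRk q 0 (f.asFiber x) (e1.mpr h.1)
  have h1 := ((rkSk_iff 0 f x).mp h).2
  exact Groth.Agent.H99.ReducedCrit.isReduced_of_R0_S1 _ h0 h1

/-- **S2567**, in stalk form. -/
theorem isReduced_stalk_of_flat_of_geomReduced {X Y : Scheme.{u}} (f : X ⟶ Y) [Flat f]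
    [LocallyOfFinitePresentation f] (x : X)
    (hy : IsReduced (Y.presheaf.stalk (f.base x)))
    (hx : FBase.IsGeomReducedAt (f.fiberToSpecResidueField (f.base x)) (f.asFiber x)) :
    IsReduced (X.presheaf.stalk x) := by
  haveI : LocallyOfFiniteType f := inferInstance
  have hopen : IsOpen {x : X | RkSk 0 f x} := isOpen_rkSk 0 f
  have hxU : RkSk 0 f x := (geomReducedAt_iff_rkSk f x).mp hx
  refine ⟨fun s hs => ?_⟩
  by_contra hs0
  set J : Ideal (X.presheaf.stalk x) :=
    (Submodule.span (X.presheaf.stalk x) ({s} : Set (X.presheaf.stalk x))).annihilator with hJdef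
  have hmemJ : ∀ r : X.presheaf.stalk x, r ∈ J ↔ r * s = 0 := fun r => by
    rw [hJdef, Submodule.mem_annihilator_span_singleton, smul_eq_mul]
  have hJ : J ≠ ⊤ := by
    intro htop
    have : (1 : X.presheaf.stalk x) ∈ J := htop ▸ Submodule.mem_top
    rw [hmemJ, one_mul] at this
    exact hs0 this
  obtain ⟨𝔮, h𝔮⟩ := Ideal.nonempty_minimalPrimes hJ
  haveI : 𝔮.IsPrime := h𝔮.1.1
  obtain ⟨x', h, hgen⟩ := exists_genPrime_eq x 𝔮
  subst hgen
  letI algST : Algebra (X.presheaf.stalk x) (X.presheaf.stalk x') :=
    (X.presheaf.stalkSpecializes h).hom.toAlgebra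
  haveI hloc : IsLocalization.AtPrime (X.presheaf.stalk x') (genPrime h) :=
    isLocalization_stalkSpecializes h
  set s' : X.presheaf.stalk x' := algebraMap (X.presheaf.stalk x) (X.presheaf.stalk x') s with hs'
  have hs'0 : s' ≠ 0 := by
    intro h0
    obtain ⟨m, hm⟩ := (IsLocalization.map_eq_zero_iff (genPrime h).primeCompl
      (X.presheaf.stalk x') s).mp h0
    have hmJ : (m : X.presheaf.stalk x) ∈ J := (hmemJ _).mpr hm
    exact m.2 (h𝔮.1.2 hmJ)
  have hs'nil : IsNilpotent s' := hs.map _
  -- radical of `J T`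
  have hrad := IsLocalization.AtPrime.radical_map_of_mem_minimalPrimes
    (A := X.presheaf.stalk x') (genPrime h) J h𝔮
  have hmax : (genPrime h).map (algebraMap (X.presheaf.stalk x) (X.presheaf.stalk x')) =
      maximalIdeal (X.presheaf.stalk x') :=
    IsLocalization.AtPrime.map_eq_maximalIdeal (genPrime h) (X.presheaf.stalk x')
  have hJkill : ∀ t ∈ J.map (algebraMap (X.presheaf.stalk x) (X.presheaf.stalk x')),
      t * s' = 0 := by
    intro t ht
    unfold Ideal.map at ht
    induction ht using Submodule.span_induction with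
    | mem y hy' =>
      obtain ⟨r, hr, rfl⟩ := hy'
      rw [hs', ← map_mul, (hmemJ r).mp hr, map_zero]
    | zero => simp
    | add a b _ _ ha hb => rw [add_mul, ha, hb, add_zero]
    | smul c a _ ha => rw [smul_eq_mul, mul_assoc, ha, mul_zero]
  have hpow : ∀ t ∈ maximalIdeal (X.presheaf.stalk x'), ∃ n : ℕ, t ^ n * s' = 0 := by
    intro t ht
    rw [← hmax, ← hrad] at ht
    obtain ⟨n, hn⟩ := ht
    exact ⟨n, hJkill _ hn⟩
  -- the base local ring at `f x'` is reduced
  have hsp : f.base x' ⤳ f.base x := h.map f.continuous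
  haveI hRred : IsReduced (Y.presheaf.stalk (f.base x')) := by
    letI := (Y.presheaf.stalkSpecializes hsp).hom.toAlgebra
    haveI := isLocalization_stalkSpecializes hsp
    let e : Localization.AtPrime (genPrime hsp) ≃+* Y.presheaf.stalk (f.base x') :=
      (IsLocalization.algEquiv (genPrime hsp).primeCompl _ _).toRingEquiv
    exact isReduced_of_injective e.symm e.symm.injective
  -- flatness
  letI algRT : Algebra (Y.presheaf.stalk (f.base x')) (X.presheaf.stalk x') :=
    (f.stalkMap x').hom.toAlgebra
  haveI hflat : Module.Flat (Y.presheaf.stalk (f.base x')) (X.presheaf.stalk x') :=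
    Flat.stalkMap f x'
  -- the fibre local ring at `x'` is reduced
  have hx'U : RkSk 0 f x' := h.mem_open hopen hxU
  haveI hfr := isReduced_fibreStalk_of_rkSk f x' hx'U
  haveI hqr : IsReduced (X.presheaf.stalk x' ⧸ fibreIdeal f x') :=
    isReduced_of_injective (quotientEquivStalkAsFiber f x') (quotientEquivStalkAsFiber f x').injective
  have h1 : s' ∈ (maximalIdeal (Y.presheaf.stalk (f.base x'))).map
      (algebraMap (Y.presheaf.stalk (f.base x')) (X.presheaf.stalk x')) := by
    have hn : IsNilpotent (Ideal.Quotient.mk (fibreIdeal f x') s') := hs'nil.map _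
    have h0 := hn.eq_zero
    rw [Ideal.Quotient.eq_zero_iff_mem] at h0
    exact h0
  have h2 : ∀ a ∈ maximalIdeal (Y.presheaf.stalk (f.base x')),
      ∃ n : ℕ, algebraMap (Y.presheaf.stalk (f.base x')) (X.presheaf.stalk x') a ^ n * s' = 0 := by
    intro a ha
    refine hpow _ ?_
    exact fibreIdeal_le_maximalIdeal f x' (Ideal.mem_map_of_mem _ ha)
  exact hs'0 (eq_zero_of_flat_of_isReduced (maximalIdeal (Y.presheaf.stalk (f.base x'))) s' h1 h2)

end Groth.Agent.H58.SkOpen
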