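import Mathlib
import Groth.Agent.H15.AssFlat

/-!
# Ascent of reducedness along flat ring maps, without finiteness hypotheses (helper58; for S2567)

`R` reduced, `T` a flat `R`-algebra, `𝔪` an ideal of `R`, `s ∈ 𝔪T` such that every element of `𝔪`
has a power killing `s`.  Then `s = 0`.
-/

set_option autoImplicit false
set_option linter.unusedSectionVars false
set_option linter.style.haveILetI false
universe u

open TensorProduct

namespace Groth.Agent.H58.SkOpen

variable {R T : Type u} [CommRing R] [CommRing T] [Algebra R T]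

/-- the ideal of elements killed by all elements of `I`. -/
def annIdeal (I : Ideal R) : Ideal R where
  carrier := {b | ∀ a ∈ I, a * b = 0}
  add_mem' := by
    intro x y hx hy a ha
    rw [mul_add, hx a ha, hy a ha, add_zero]
  zero_mem' := by intro a _; exact mul_zero a
  smul_mem' := by
    intro c x hx a ha
    rw [smul_eq_mul, mul_left_comm, hx a ha, mul_zero]

theorem mem_annIdeal (I : Ideal R) (b : R) : b ∈ annIdeal I ↔ ∀ a ∈ I, a * b = 0 := Iff.rfl

theorem inf_annIdeal_eq_bot [IsReduced R] (I : Ideal R) : I ⊓ annIdeal I = ⊥ := by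
  rw [eq_bot_iff]
  rintro x ⟨hx1, hx2⟩
  have h : x * x = 0 := hx2 x hx1
  have hn : IsNilpotent x := ⟨2, by rw [pow_two]; exact h⟩
  exact hn.eq_zero

/-- elements of `IT` are killed in `T ⊗ P` by elements `p` with `I p = 0`. -/
theorem tmul_eq_zero_of_mem_map (I : Ideal R) {P : Type u} [AddCommGroup P] [Module R P] (p : P)
    (hp : ∀ a ∈ I, a • p = 0) (t : T) (ht : t ∈ I.map (algebraMap R T)) :
    t ⊗ₜ[R] p = 0 := by
  suffices h : ∀ τ : T, (τ * t) ⊗ₜ[R] p = 0 by simpa using h 1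
  unfold Ideal.map at ht
  induction ht using Submodule.span_induction with
  | mem x hx =>
    obtain ⟨a, ha, rfl⟩ := hx
    intro τ
    have : τ * algebraMap R T a = a • τ := by rw [Algebra.smul_def, mul_comm]
    rw [this, TensorProduct.smul_tmul, hp a ha, tmul_zero]
  | zero => intro τ; simp
  | add x y _ _ hx hy => intro τ; rw [mul_add, add_tmul, hx, hy, add_zero]
  | smul c x _ hx => intro τ; rw [smul_eq_mul, ← mul_assoc]; exact hx (τ * c)

variable [Module.Flat R T]

/-- flatness: `𝔞 ∩ 𝔟 = 0` implies `𝔞T ∩ 𝔟T = 0`. -/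
theorem eq_zero_of_mem_map_inf (𝔞 𝔟 : Ideal R) (h : 𝔞 ⊓ 𝔟 = ⊥) (t : T)
    (h1 : t ∈ 𝔞.map (algebraMap R T)) (h2 : t ∈ 𝔟.map (algebraMap R T)) : t = 0 := by
  let φ : R →ₗ[R] (R ⧸ 𝔞) × (R ⧸ 𝔟) :=
    LinearMap.prod (Submodule.mkQ 𝔞) (Submodule.mkQ 𝔟)
  have hφ : Function.Injective φ := by
    rw [← LinearMap.ker_eq_bot, eq_bot_iff]
    intro r hr
    rw [LinearMap.mem_ker] at hr
    have e1 : Submodule.mkQ 𝔞 r = 0 := congrArg Prod.fst hr
    have e2 : Submodule.mkQ 𝔟 r = 0 := congrArg Prod.snd hr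
    rw [Submodule.mkQ_apply, Submodule.Quotient.mk_eq_zero] at e1 e2
    have : r ∈ 𝔞 ⊓ 𝔟 := ⟨e1, e2⟩
    rw [h] at this
    exact this
  have hinj := Module.Flat.lTensor_preserves_injective_linearMap (M := T) φ hφ
  have hz : φ.lTensor T (t ⊗ₜ[R] (1 : R)) = 0 := by
    rw [LinearMap.lTensor_tmul]
    have hsplit : φ 1 = ((Submodule.mkQ 𝔞 1, 0) : (R ⧸ 𝔞) × (R ⧸ 𝔟)) +
        ((0, Submodule.mkQ 𝔟 1) : (R ⧸ 𝔞) × (R ⧸ 𝔟)) := by
      simp [φ]
    rw [hsplit, tmul_add]
    have e1 : t ⊗ₜ[R] ((Submodule.mkQ 𝔞 1, 0) : (R ⧸ 𝔞) × (R ⧸ 𝔟)) = 0 := by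
      refine tmul_eq_zero_of_mem_map 𝔞 _ ?_ t h1
      intro a ha
      ext
      · change a • Submodule.mkQ 𝔞 (1 : R) = 0
        rw [← map_smul, Submodule.mkQ_apply, Submodule.Quotient.mk_eq_zero, smul_eq_mul, mul_one]
        exact ha
      · simp
    have e2 : t ⊗ₜ[R] ((0, Submodule.mkQ 𝔟 1) : (R ⧸ 𝔞) × (R ⧸ 𝔟)) = 0 := by
      refine tmul_eq_zero_of_mem_map 𝔟 _ ?_ t h2
      intro a ha
      ext
      · simp
      · change a • Submodule.mkQ 𝔟 (1 : R) = 0
        rw [← map_smul, Submodule.mkQ_apply, Submodule.Quotient.mk_eq_zero, smul_eq_mul, mul_one]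
        exact ha
    rw [e1, e2, add_zero]
  have h0 : t ⊗ₜ[R] (1 : R) = 0 := hinj (by rw [hz, map_zero])
  have := congrArg (TensorProduct.rid R T) h0
  simpa using this

/-- flatness: an element killed by a finitely generated ideal `I` lies in `(0 : I) T`. -/
theorem mem_map_annIdeal (I : Ideal R) (hI : I.FG) (t : T)
    (ht : ∀ a ∈ I, algebraMap R T a * t = 0) : t ∈ (annIdeal I).map (algebraMap R T) := by
  obtain ⟨z', hz'⟩ := Groth.Agent.H15.AssFlat.exists_of_smul_eq_zero (N := T) (M := R) I hI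
    (t ⊗ₜ[R] (1 : R)) (by
      intro a ha
      rw [TensorProduct.smul_tmul', Algebra.smul_def, ht a ha, zero_tmul])
  have key : ∀ z : T ⊗[R] (Submodule.torsionBySet R R (I : Set R)),
      TensorProduct.rid R T ((Submodule.torsionBySet R R (I : Set R)).subtype.lTensor T z) ∈
        (annIdeal I).map (algebraMap R T) := by
    intro z
    induction z using TensorProduct.induction_on with
    | zero => simp
    | tmul τ b =>
      rw [LinearMap.lTensor_tmul, TensorProduct.rid_tmul, Submodule.subtype_apply,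
        Algebra.smul_def]
      refine Ideal.mul_mem_right _ _ (Ideal.mem_map_of_mem _ ?_)
      intro a ha
      have := (Submodule.mem_torsionBySet_iff _ _).mp b.2 ⟨a, ha⟩
      simpa using this
    | add x y hx hy => rw [map_add, map_add]; exact Ideal.add_mem _ hx hy
  have := key z'
  rw [hz', TensorProduct.rid_tmul, one_smul] at this
  exact this

/-- **Key lemma.** -/
theorem eq_zero_of_flat_of_isReduced [IsReduced R] (𝔪 : Ideal R) (s : T)
    (h1 : s ∈ 𝔪.map (algebraMap R T))
    (h2 : ∀ a ∈ 𝔪, ∃ n : ℕ, algebraMap R T a ^ n * s = 0) : s = 0 := by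
  classical
  -- a finitely generated subideal
  obtain ⟨F, hF, hsF⟩ := Submodule.mem_span_finite_of_mem_span h1
  obtain ⟨F₀, hF₀, rfl⟩ := Finset.subset_set_image_iff.mp hF
  set 𝔞 : Ideal R := Ideal.span (F₀ : Set R) with h𝔞
  have h𝔞m : 𝔞 ≤ 𝔪 := Ideal.span_le.mpr hF₀
  have hs𝔞 : s ∈ 𝔞.map (algebraMap R T) := by
    rw [h𝔞, Ideal.map_span]
    have : ((F₀.image (algebraMap R T) : Finset T) : Set T) = (algebraMap R T) '' (F₀ : Set R) := by
      simp
    rw [← this]
    exact hsF
  -- every generator kills `s`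
  have hkill : ∀ a ∈ F₀, algebraMap R T a * s = 0 := by
    intro a ha
    obtain ⟨n, hn⟩ := h2 a (hF₀ ha)
    have h3 : s ∈ (annIdeal (Ideal.span {a ^ n})).map (algebraMap R T) := by
      refine mem_map_annIdeal _ ⟨{a ^ n}, by simp⟩ s ?_
      intro c hc
      obtain ⟨d, rfl⟩ := Ideal.mem_span_singleton'.mp hc
      rw [map_mul, map_pow, mul_assoc, hn, mul_zero]
    have h4 : annIdeal (Ideal.span {a ^ n}) ≤ annIdeal (Ideal.span {a}) := by
      intro b hb c hc
      obtain ⟨d, rfl⟩ := Ideal.mem_span_singleton'.mp hc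
      have h5 : a ^ n * b = 0 := hb _ (Ideal.mem_span_singleton_self _)
      have h6 : IsNilpotent (a * b) := by
        refine ⟨n + 1, ?_⟩
        rw [mul_pow, pow_succ, pow_succ]
        calc a ^ n * a * (b ^ n * b) = (a ^ n * b) * (a * b ^ n) := by ring
          _ = 0 := by rw [h5, zero_mul]
      rw [mul_assoc, h6.eq_zero, mul_zero]
    have h7 : s ∈ (annIdeal (Ideal.span {a})).map (algebraMap R T) := Ideal.map_mono h4 h3
    -- `a` kills `(0 : a) T`
    have h8 : ∀ t ∈ (annIdeal (Ideal.span {a})).map (algebraMap R T), algebraMap R T a * t = 0 := by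
      intro t ht
      unfold Ideal.map at ht
      induction ht using Submodule.span_induction with
      | mem x hx =>
        obtain ⟨b, hb, rfl⟩ := hx
        rw [← map_mul, hb a (Ideal.mem_span_singleton_self a), map_zero]
      | zero => simp
      | add x y _ _ hx hy => rw [mul_add, hx, hy, add_zero]
      | smul c x _ hx => rw [smul_eq_mul, mul_left_comm, hx, mul_zero]
    exact h8 s h7
  have hkill' : ∀ a ∈ 𝔞, algebraMap R T a * s = 0 := by
    intro a ha
    rw [h𝔞] at ha
    induction ha using Submodule.span_induction with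
    | mem x hx => exact hkill x hx
    | zero => simp
    | add x y _ _ hx hy => rw [map_add, add_mul, hx, hy, add_zero]
    | smul c x _ hx => rw [smul_eq_mul, map_mul, mul_assoc, hx, mul_zero]
  have h9 : s ∈ (annIdeal 𝔞).map (algebraMap R T) :=
    mem_map_annIdeal 𝔞 ⟨F₀, rfl⟩ s hkill'
  exact eq_zero_of_mem_map_inf 𝔞 (annIdeal 𝔞) (inf_annIdeal_eq_bot 𝔞) s hs𝔞 h9

end Groth.Agent.H58.SkOpen
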