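import Groth.Agent.H58.SkOpen.General

/-!
# Openness of pointwise properties of flat morphisms: constructible + generizing over DVRs
(helper58; abstract form of `SkOpen/General.lean` for an arbitrary pointwise property `Q f x`)

Let `Q : ∀ X S, (X ⟶ S) → X → Prop` be a pointwise property which is
* invariant under base change and open immersions of the source (`IsStableQ`),
* locally constructible for `f` locally of finite presentation,
* generizing from the closed to the generic fibre of flat morphisms locally of finite type over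
  discrete valuation rings (`DVRStep`).
Then `{x | Q f x}` is open for `f` flat and locally of finite presentation.
-/

set_option autoImplicit false
set_option linter.unusedSectionVars false
set_option linter.style.haveILetI false
universe u

open CategoryTheory CategoryTheory.Limits AlgebraicGeometry IsLocalRing Topology

namespace Groth.Agent.H58.SkOpen

/-- stability under base change and open immersions. -/
structure IsStableQ (Q : ∀ ⦃X S : Scheme.{u}⦄, (X ⟶ S) → X → Prop) : Prop where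
  baseChange : ∀ ⦃X S X' S' : Scheme.{u}⦄ (f : X ⟶ S) (f' : X' ⟶ S') (g' : X' ⟶ X) (g : S' ⟶ S),
    IsPullback g' f' f g → LocallyOfFiniteType f → ∀ x' : X', Q f' x' ↔ Q f (g' x')
  openImm : ∀ ⦃U X S : Scheme.{u}⦄ (j : U ⟶ X) (f : X ⟶ S), IsOpenImmersion j →
    LocallyOfFiniteType f → ∀ u : U, Q (j ≫ f) u ↔ Q f (j u)

/-- generization from the closed fibre to the generic fibre over a DVR. -/
def DVRStep (Q : ∀ ⦃X S : Scheme.{u}⦄, (X ⟶ S) → X → Prop) : Prop :=
  ∀ (V : Type u) [CommRing V] [IsDomain V] [IsDiscreteValuationRing V] {Z : Scheme.{u}}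
    (g : Z ⟶ Spec (CommRingCat.of V)) [Flat g] [LocallyOfFiniteType g] (z z' : Z), z' ⤳ z →
    (g z).asIdeal = maximalIdeal V → (g z').asIdeal = ⊥ → Q g z → Q g z'

variable {Q : ∀ ⦃X S : Scheme.{u}⦄, (X ⟶ S) → X → Prop}

theorem IsStableQ.and {Q' : ∀ ⦃X S : Scheme.{u}⦄, (X ⟶ S) → X → Prop} (h : IsStableQ Q)
    (h' : IsStableQ Q') : IsStableQ (fun _ _ f x => Q f x ∧ Q' f x) where
  baseChange := fun _ _ _ _ f f' g' g hc hft x' =>
    and_congr (h.baseChange f f' g' g hc hft x') (h'.baseChange f f' g' g hc hft x')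
  openImm := fun _ _ _ j f hj hft u =>
    and_congr (h.openImm j f hj hft u) (h'.openImm j f hj hft u)

open Groth.Agent.H99.FibLocProp in
theorem isStableQ_fibP {P : ∀ (R : Type u) [CommRing R], Prop} (hP : IsLocProp P) :
    IsStableQ (FibP P) where
  baseChange := fun _ _ _ _ f f' g' g hc hft x' => by
    haveI := hft
    exact fibP_baseChange hP f f' g' g hc x'
  openImm := fun _ _ _ j f hj _ u => by
    haveI := hj
    exact fibP_openImm hP j f u

/-- generization for flat morphisms locally of finite type with locally Noetherian source. -/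
theorem q_generizes_noeth (hQ : IsStableQ Q) (hstep : DVRStep Q) {X S : Scheme.{u}}
    (f : X ⟶ S) [Flat f] [LocallyOfFiniteType f]
    [IsLocallyNoetherian X] (x x' : X) (hsp : x' ⤳ x)
    (hS : Q f x) : Q f x' := by
  obtain ⟨V, _, _, _, h, ξ, hcomm, hcl, hξ⟩ :=
    Groth.Agent.H50.DVRSp.exists_dvr_of_specializes (𝟙 X) x' x (by simpa using hsp)
  let K := FractionRing V
  let T : Scheme.{u} := Spec (CommRingCat.of V)
  let η : T := (Spec.map (CommRingCat.ofHom (algebraMap V K))) (closedPoint K)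
  have hη : η.asIdeal = ⊥ := by
    change ((closedPoint K).asIdeal).comap (algebraMap V K) = ⊥
    have h1 : (closedPoint K).asIdeal = ⊥ := by
      change maximalIdeal K = ⊥
      exact IsLocalRing.isField_iff_maximalIdeal_eq.mp (Field.toIsField K)
    rw [h1, ← RingHom.ker_eq_comap_bot]
    exact (RingHom.injective_iff_ker_eq_bot _).mp (IsFractionRing.injective V K)
  have hhη : h η = x' := by
    have := congr($(hcomm) (closedPoint K))
    simp only [Scheme.Hom.comp_apply, Category.comp_id] at this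
    rw [← hξ]
    exact this.symm
  let g' : pullback f (h ≫ f) ⟶ X := pullback.fst f (h ≫ f)
  let g : pullback f (h ≫ f) ⟶ T := pullback.snd f (h ≫ f)
  have hc : IsPullback g' g f (h ≫ f) := IsPullback.of_hasPullback _ _
  let σ : T ⟶ pullback f (h ≫ f) := pullback.lift h (𝟙 T) (by simp)
  have hσ1 : σ ≫ g' = h := pullback.lift_fst _ _ _
  have hσ2 : σ ≫ g = 𝟙 T := pullback.lift_snd _ _ _
  let z := σ (closedPoint V)
  let z' := σ η
  have hspec : η ⤳ (closedPoint V : T) :=
    (PrimeSpectrum.le_iff_specializes (η : PrimeSpectrum V) (closedPoint V)).mp (by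
      change η.asIdeal ≤ (closedPoint V).asIdeal
      rw [hη]
      exact bot_le)
  have hzz' : z' ⤳ z := hspec.map σ.continuous
  have hgz : g z = closedPoint V := by
    have := congr($(hσ2) (closedPoint V))
    simpa using this
  have hgz' : g z' = η := by
    have := congr($(hσ2) η)
    simpa using this
  have hg'z : g' z = x := by
    have := congr($(hσ1) (closedPoint V))
    simp only [Scheme.Hom.comp_apply] at this
    rw [← hcl]; exact this
  have hg'z' : g' z' = x' := by
    have := congr($(hσ1) η)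
    simp only [Scheme.Hom.comp_apply] at this
    rw [← hhη]; exact this
  have e1 := hQ.baseChange f g g' (h ≫ f) hc inferInstance z
  have e2 := hQ.baseChange f g g' (h ≫ f) hc inferInstance z'
  rw [hg'z] at e1
  rw [hg'z'] at e2
  have hz1 : (g z).asIdeal = maximalIdeal V := by rw [hgz]; rfl
  have hz2 : (g z').asIdeal = ⊥ := by rw [hgz']; exact hη
  exact e2.mp (hstep V g z z' hzz' hz1 hz2 (e1.mpr hS))

/-- Noetherian affine case. -/
theorem isOpen_q_spec (hQ : IsStableQ Q) (hstep : DVRStep Q)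
    (hlc : ∀ ⦃X S : Scheme.{u}⦄ (f : X ⟶ S), LocallyOfFinitePresentation f →
      IsLocallyConstructible {x : X | Q f x})
    {A₀ B₀ : CommRingCat.{u}} (φ₀ : A₀ ⟶ B₀) [IsNoetherianRing A₀]
    (hfp : φ₀.hom.FinitePresentation) (hfl : φ₀.hom.Flat) :
    IsOpen {x : Spec B₀ | Q (Spec.map φ₀) x} := by
  haveI hlfp : LocallyOfFinitePresentation (Spec.map φ₀) := by
    rw [HasRingHomProperty.Spec_iff (P := @LocallyOfFinitePresentation)]
    exact hfp
  haveI hflat : Flat (Spec.map φ₀) := by
    rw [HasRingHomProperty.Spec_iff (P := @Flat)]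
    exact hfl
  haveI hlft : LocallyOfFiniteType (Spec.map φ₀) := inferInstance
  haveI : IsLocallyNoetherian (Spec B₀) := LocallyOfFiniteType.isLocallyNoetherian (Spec.map φ₀)
  have hc : IsConstructible {x : Spec B₀ | Q (Spec.map φ₀) x} :=
    (hlc (Spec.map φ₀) hlfp).isConstructible
  refine PrimeSpectrum.isOpen_of_stableUnderGeneralization_of_isConstructible (R := B₀) ?_ hc
  intro x x' hsp hx
  exact q_generizes_noeth hQ hstep (Spec.map φ₀) x x' hsp hx

/-- affine source and target. -/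
theorem isOpen_q_of_isAffine (hQ : IsStableQ Q) (hstep : DVRStep Q)
    (hlc : ∀ ⦃X S : Scheme.{u}⦄ (f : X ⟶ S), LocallyOfFinitePresentation f →
      IsLocallyConstructible {x : X | Q f x})
    {X S : Scheme.{u}} (f : X ⟶ S) [IsAffine X] [IsAffine S]
    [Flat f] [LocallyOfFinitePresentation f] :
    IsOpen {x : X | Q f x} := by
  have hφ : f.appTop.hom.FinitePresentation :=
    (HasRingHomProperty.iff_of_isAffine (P := @LocallyOfFinitePresentation)).mp inferInstance
  have hfl : f.appTop.hom.Flat :=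
    (HasRingHomProperty.iff_of_isAffine (P := @Flat)).mp inferInstance
  obtain ⟨A₀, B₀, φ₀, α, β, hN, hfp, hflat, hpb⟩ := exists_isPullback_flat_noeth f.appTop hφ hfl
  have hsq : IsPullback X.isoSpec.hom f (Spec.map f.appTop) S.isoSpec.hom :=
    IsPullback.of_horiz_isIso ⟨Scheme.isoSpec_hom_naturality f⟩
  have hpb' := hsq.paste_horiz hpb
  haveI hft : LocallyOfFiniteType (Spec.map φ₀) := by
    rw [HasRingHomProperty.Spec_iff (P := @LocallyOfFiniteType)]
    exact RingHom.FiniteType.of_finitePresentation hfp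
  have hopen := isOpen_q_spec hQ hstep hlc φ₀ hfp hflat
  have hE : {x : X | Q f x} =
      (X.isoSpec.hom ≫ Spec.map β) ⁻¹' {x | Q (Spec.map φ₀) x} := by
    ext x
    exact hQ.baseChange (Spec.map φ₀) f _ _ hpb' hft x
  rw [hE]
  exact hopen.preimage (X.isoSpec.hom ≫ Spec.map β).continuous

/-- **EGA IV 12.1.6 pattern** for a pointwise property `Q`. -/
theorem isOpen_q (hQ : IsStableQ Q) (hstep : DVRStep Q)
    (hlc : ∀ ⦃X S : Scheme.{u}⦄ (f : X ⟶ S), LocallyOfFinitePresentation f →
      IsLocallyConstructible {x : X | Q f x})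
    {X S : Scheme.{u}} (f : X ⟶ S) [Flat f] [LocallyOfFinitePresentation f] :
    IsOpen {x : X | Q f x} := by
  rw [isOpen_iff_forall_mem_open]
  intro x hx
  obtain ⟨V, hV, hxV⟩ : ∃ V : S.Opens, IsAffineOpen V ∧ f x ∈ V := by
    obtain ⟨_, ⟨V, hV, rfl⟩, hxV, -⟩ := S.isBasis_affineOpens.exists_subset_of_mem_open
      (Set.mem_univ (f x)) isOpen_univ
    exact ⟨V, hV, hxV⟩
  obtain ⟨U, hU, hxU, hUV⟩ : ∃ U : X.Opens, IsAffineOpen U ∧ x ∈ U ∧ U ≤ f ⁻¹ᵁ V := by
    obtain ⟨_, ⟨U, hU, rfl⟩, hxU, hUV⟩ := X.isBasis_affineOpens.exists_subset_of_mem_open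
      (show x ∈ ((f ⁻¹ᵁ V : X.Opens) : Set X) from hxV) (f ⁻¹ᵁ V).isOpen
    exact ⟨U, hU, hxU, hUV⟩
  haveI : IsAffine (U : Scheme.{u}) := hU
  haveI : IsAffine (V : Scheme.{u}) := hV
  haveI : Flat (f.resLE V U hUV) := inferInstance
  have hopen := isOpen_q_of_isAffine hQ hstep hlc (f.resLE V U hUV)
  have hlft : LocallyOfFiniteType f := inferInstance
  have hpbV : IsPullback (𝟙 (U : Scheme.{u})) (f.resLE V U hUV) (f.resLE V U hUV ≫ V.ι) V.ι :=
    IsPullback.of_horiz_isIso_mono ⟨by simp⟩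
  haveI hlft' : LocallyOfFiniteType (f.resLE V U hUV ≫ V.ι) := inferInstance
  have hE : {u : (U : Scheme.{u}) | Q (f.resLE V U hUV) u} =
      {u : (U : Scheme.{u}) | Q f (U.ι u)} := by
    ext u
    simp only [Set.mem_ofPred_eq]
    have e1 := hQ.baseChange _ _ _ _ hpbV hlft' u
    rw [e1]
    have e2 : Q (f.resLE V U hUV ≫ V.ι) ((𝟙 (U : Scheme.{u})) u) ↔ Q (U.ι ≫ f) u := by
      rw [Scheme.Hom.resLE_comp_ι]
      rfl
    rw [e2]
    exact hQ.openImm U.ι f inferInstance hlft u
  rw [hE] at hopen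
  refine ⟨U.ι '' {u : (U : Scheme.{u}) | Q f (U.ι u)}, ?_,
    U.ι.isOpenEmbedding.isOpenMap _ hopen, ⟨⟨x, hxU⟩, hx, rfl⟩⟩
  rintro _ ⟨u, hu, rfl⟩
  exact hu

/-- variant on the flat locus. -/
theorem isOpen_flat_and_q (hQ : IsStableQ Q) (hstep : DVRStep Q)
    (hlc : ∀ ⦃X S : Scheme.{u}⦄ (f : X ⟶ S), LocallyOfFinitePresentation f →
      IsLocallyConstructible {x : X | Q f x})
    (hflatOpen : ∀ ⦃X S : Scheme.{u}⦄ (f : X ⟶ S), LocallyOfFinitePresentation f →
      IsOpen {x : X | (f.stalkMap x).hom.Flat})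
    {X S : Scheme.{u}} (f : X ⟶ S) [LocallyOfFinitePresentation f] :
    IsOpen {x : X | (f.stalkMap x).hom.Flat ∧ Q f x} := by
  let W : X.Opens := ⟨{x : X | (f.stalkMap x).hom.Flat}, hflatOpen f inferInstance⟩
  haveI hflat : Flat (W.ι ≫ f) := by
    rw [Flat.iff_flat_stalkMap]
    intro w
    have e : ((W.ι ≫ f).stalkMap w).hom =
        (W.ι.stalkMap w).hom.comp (f.stalkMap (W.ι w)).hom :=
      congrArg CommRingCat.Hom.hom (Scheme.Hom.stalkMap_comp W.ι f w)
    rw [e]
    refine RingHom.Flat.comp (w.2 : (f.stalkMap (W.ι w)).hom.Flat) ?_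
    exact RingHom.Flat.of_bijective (ConcreteCategory.bijective_of_isIso (W.ι.stalkMap w))
  have hlft : LocallyOfFiniteType f := inferInstance
  have hopen := isOpen_q hQ hstep hlc (W.ι ≫ f)
  have hset : {x : X | (f.stalkMap x).hom.Flat ∧ Q f x} =
      W.ι '' {w : (W : Scheme.{u}) | Q (W.ι ≫ f) w} := by
    ext x
    constructor
    · rintro ⟨h1, h2⟩
      refine ⟨⟨x, h1⟩, ?_, rfl⟩
      rw [Set.mem_ofPred_eq, hQ.openImm W.ι f inferInstance hlft ⟨x, h1⟩]
      exact h2
    · rintro ⟨w, hw, rfl⟩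
      refine ⟨w.2, ?_⟩
      rw [Set.mem_ofPred_eq, hQ.openImm W.ι f inferInstance hlft w] at hw
      exact hw
  rw [hset]
  exact W.ι.isOpenEmbedding.isOpenMap _ hopen

end Groth.Agent.H58.SkOpen
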