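import Groth.Agent.H58.SkOpen.FlatModel
import Groth.Agent.H99.FibLocProp
import Groth.Agent.H50.DVRSp1
import Groth.Agent.H15.StalkLoc

/-!
# Openness of fibrewise properties of flat morphisms: constructible + generizing over DVRs
(helper58; abstract form of the proof of S2551, EGA IV 12.1.6)

Let `P` be a property of rings which is invariant under isomorphisms and extensions of the base
field (`IsLocProp P`, helper99).  If
* (`RingStep P`) for `C` Noetherian local and `t` a nonzerodivisor in the maximal ideal, `P (C/tC)`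
  implies `P (C_Q)` for every prime `Q ∌ t`, and
* `{x | P (O_{X_{f x}, x})}` is locally constructible for `f` locally of finite presentation,
then `{x | P (O_{X_{f x}, x})}` is open for every flat `f` locally of finite presentation.
-/

set_option autoImplicit false
set_option linter.unusedSectionVars false
set_option linter.style.haveILetI false
universe u

open CategoryTheory CategoryTheory.Limits AlgebraicGeometry IsLocalRing Topology
open Groth.Agent.H99.FibLocProp Groth.Agent.H49.FibreStalk Groth.Agent.H15.StalkLoc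

namespace Groth.Agent.H58.SkOpen

/-- the ring-level generization step. -/
def RingStep (P : ∀ (R : Type u) [CommRing R], Prop) : Prop :=
  ∀ (C : Type u) [CommRing C] [IsNoetherianRing C] [IsLocalRing C] (t : C),
    t ∈ maximalIdeal C → IsSMulRegular C t → P (C ⧸ Ideal.span {t}) →
    ∀ (Q : Ideal C) [Q.IsPrime], t ∉ Q → P (Localization.AtPrime Q)

variable {P : ∀ (R : Type u) [CommRing R], Prop}

/-- abstract DVR step. -/
theorem fibP_generizes (hP : IsLocProp P) (hstep : RingStep P) {Z T : Scheme.{u}} (g : Z ⟶ T)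
    [IsLocallyNoetherian Z]
    (z z' : Z) (h : z' ⤳ z) (hflat : (g.stalkMap z).hom.Flat)
    (π : T.presheaf.stalk (g z))
    (hπ : maximalIdeal (T.presheaf.stalk (g z)) = Ideal.span {π})
    (hπreg : IsSMulRegular (T.presheaf.stalk (g z)) π)
    (hπunit : IsUnit ((T.presheaf.stalkSpecializes (g.base.hom.map_specializes h)).hom π))
    (h0 : maximalIdeal (T.presheaf.stalk (g z')) = ⊥)
    (hS : FibP P g z) : FibP P g z' := by
  rw [fibP_iff_quotient hP] at hS ⊢
  set τ : Z.presheaf.stalk z := (g.stalkMap z).hom π with hτ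
  have hI : fibreIdeal g z = Ideal.span {τ} := by
    unfold fibreIdeal
    rw [hπ, Ideal.map_span, Set.image_singleton]
  have hI' : fibreIdeal g z' = ⊥ := by
    unfold fibreIdeal
    rw [h0, Ideal.map_bot]
  have hτm : τ ∈ maximalIdeal (Z.presheaf.stalk z) := by
    have hπm : π ∈ maximalIdeal (T.presheaf.stalk (g z)) := by
      rw [hπ]; exact Ideal.subset_span rfl
    rw [mem_maximalIdeal, mem_nonunits_iff] at hπm ⊢
    intro hu
    have : IsLocalHom (g.stalkMap z).hom := inferInstance
    exact hπm (this.map_nonunit π hu)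
  have hτreg : IsSMulRegular (Z.presheaf.stalk z) τ := by
    letI := (g.stalkMap z).hom.toAlgebra
    haveI : Module.Flat (T.presheaf.stalk (g z)) (Z.presheaf.stalk z) := hflat
    exact hπreg.of_flat
  have hτP : τ ∉ genPrime h := by
    rw [mem_genPrime_iff, not_not, hτ]
    have h2 : (Z.presheaf.stalkSpecializes h).hom ((g.stalkMap z).hom π) =
        (g.stalkMap z').hom
          ((T.presheaf.stalkSpecializes (g.base.hom.map_specializes h)).hom π) :=
      (Scheme.Hom.stalkSpecializes_stalkMap_apply g z' z h π).symm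
    rw [h2]
    exact hπunit.map _
  have hS' : P (Z.presheaf.stalk z ⧸ Ideal.span {τ}) := hP.iso (Ideal.quotEquivOfEq hI) hS
  have hloc := hstep (Z.presheaf.stalk z) τ hτm hτreg hS' (genPrime h) hτP
  letI := (Z.presheaf.stalkSpecializes h).hom.toAlgebra
  haveI := isLocalization_stalkSpecializes h
  let e : Localization.AtPrime (genPrime h) ≃+* Z.presheaf.stalk z' :=
    (IsLocalization.algEquiv (genPrime h).primeCompl _ _).toRingEquiv
  have h2 : P (Z.presheaf.stalk z') := hP.iso e hloc
  exact hP.iso ((Ideal.quotEquivOfEq hI').trans (RingEquiv.quotientBot _)).symm h2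

/-- over a DVR: from the closed fibre to the generic fibre. -/
theorem fibP_generizes_over_dvr (hP : IsLocProp P) (hstep : RingStep P) (V : Type u) [CommRing V]
    [IsDomain V] [IsDiscreteValuationRing V] {Z : Scheme.{u}}
    (g : Z ⟶ Spec (CommRingCat.of V)) [Flat g]
    [LocallyOfFiniteType g] (z z' : Z) (h : z' ⤳ z)
    (hz : (g z).asIdeal = maximalIdeal V) (hz' : (g z').asIdeal = ⊥)
    (hS : FibP P g z) : FibP P g z' := by
  haveI : IsLocallyNoetherian Z := LocallyOfFiniteType.isLocallyNoetherian g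
  obtain ⟨ϖ, hϖ⟩ := IsDiscreteValuationRing.exists_irreducible V
  have hmax : maximalIdeal V = Ideal.span {ϖ} := hϖ.maximalIdeal_eq
  letI a1 : Algebra V ((Spec (CommRingCat.of V)).presheaf.stalk (g z)) :=
    StructureSheaf.stalkAlgebra V (g z)
  haveI l1 : IsLocalization.AtPrime ((Spec (CommRingCat.of V)).presheaf.stalk (g z))
      (g z).asIdeal := StructureSheaf.IsLocalization.to_stalk V (g z)
  letI a2 : Algebra V ((Spec (CommRingCat.of V)).presheaf.stalk (g z')) :=
    StructureSheaf.stalkAlgebra V (g z')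
  haveI l2 : IsLocalization.AtPrime ((Spec (CommRingCat.of V)).presheaf.stalk (g z'))
      (g z').asIdeal := StructureSheaf.IsLocalization.to_stalk V (g z')
  refine fibP_generizes hP hstep g z z' h (Flat.stalkMap g z)
    (algebraMap V ((Spec (CommRingCat.of V)).presheaf.stalk (g z)) ϖ) ?_ ?_ ?_ ?_ hS
  · rw [← IsLocalization.AtPrime.map_eq_maximalIdeal (g z).asIdeal
      ((Spec (CommRingCat.of V)).presheaf.stalk (g z)), hz, hmax, Ideal.map_span,
      Set.image_singleton]
  · haveI : Module.Flat V ((Spec (CommRingCat.of V)).presheaf.stalk (g z)) :=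
      IsLocalization.flat _ (g z).asIdeal.primeCompl
    have hreg : IsSMulRegular V ϖ := (isRegular_of_ne_zero hϖ.ne_zero).left.isSMulRegular
    exact hreg.of_flat
  · have h1 : ((Spec (CommRingCat.of V)).presheaf.stalkSpecializes
        (g.base.hom.map_specializes h)).hom
        (algebraMap V ((Spec (CommRingCat.of V)).presheaf.stalk (g z)) ϖ) =
        algebraMap V ((Spec (CommRingCat.of V)).presheaf.stalk (g z')) ϖ := by
      have := StructureSheaf.toStalk_stalkSpecializes (R := V) (g.base.hom.map_specializes h)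
      exact congr($(this).hom ϖ)
    rw [h1]
    refine IsLocalization.map_units ((Spec (CommRingCat.of V)).presheaf.stalk (g z'))
      (⟨ϖ, ?_⟩ : (g z').asIdeal.primeCompl)
    rw [Ideal.mem_primeCompl_iff, hz']
    exact fun h0 => hϖ.ne_zero (by simpa using h0)
  · rw [← IsLocalization.AtPrime.map_eq_maximalIdeal (g z').asIdeal
      ((Spec (CommRingCat.of V)).presheaf.stalk (g z')), hz', Ideal.map_bot]

/-- generization for flat morphisms locally of finite type with locally Noetherian source. -/
theorem fibP_generizes_noeth (hP : IsLocProp P) (hstep : RingStep P) {X S : Scheme.{u}}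
    (f : X ⟶ S) [Flat f] [LocallyOfFiniteType f]
    [IsLocallyNoetherian X] (x x' : X) (hsp : x' ⤳ x)
    (hS : FibP P f x) : FibP P f x' := by
  obtain ⟨V, _, _, _, h, ξ, hcomm, hcl, hξ⟩ :=
    Groth.Agent.H50.DVRSp.exists_dvr_of_specializes (𝟙 X) x' x (by simpa using hsp)
  let K := FractionRing V
  let T : Scheme.{u} := Spec (CommRingCat.of V)
  let η : T := (Spec.map (CommRingCat.ofHom (algebraMap V K))) (closedPoint K)
  have hη : η.asIdeal = ⊥ := by
    change ((closedPoint K).asIdeal).comap (algebraMap V K) = ⊥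
    have h1 : (closedPoint K).asIdeal = ⊥ := by
      change maximalIdeal K = ⊥
      exact IsLocalRing.isField_iff_maximalIdeal_eq.mp (Field.toIsField K)
    rw [h1, ← RingHom.ker_eq_comap_bot]
    exact (RingHom.injective_iff_ker_eq_bot _).mp (IsFractionRing.injective V K)
  have hhη : h η = x' := by
    have := congr($(hcomm) (closedPoint K))
    simp only [Scheme.Hom.comp_apply, Category.comp_id] at this
    rw [← hξ]
    exact this.symm
  let g' : pullback f (h ≫ f) ⟶ X := pullback.fst f (h ≫ f)
  let g : pullback f (h ≫ f) ⟶ T := pullback.snd f (h ≫ f)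
  have hc : IsPullback g' g f (h ≫ f) := IsPullback.of_hasPullback _ _
  let σ : T ⟶ pullback f (h ≫ f) := pullback.lift h (𝟙 T) (by simp)
  have hσ1 : σ ≫ g' = h := pullback.lift_fst _ _ _
  have hσ2 : σ ≫ g = 𝟙 T := pullback.lift_snd _ _ _
  let z := σ (closedPoint V)
  let z' := σ η
  have hspec : η ⤳ (closedPoint V : T) :=
    (PrimeSpectrum.le_iff_specializes (η : PrimeSpectrum V) (closedPoint V)).mp (by
      change η.asIdeal ≤ (closedPoint V).asIdeal
      rw [hη]
      exact bot_le)
  have hzz' : z' ⤳ z := hspec.map σ.continuous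
  have hgz : g z = closedPoint V := by
    have := congr($(hσ2) (closedPoint V))
    simpa using this
  have hgz' : g z' = η := by
    have := congr($(hσ2) η)
    simpa using this
  have hg'z : g' z = x := by
    have := congr($(hσ1) (closedPoint V))
    simp only [Scheme.Hom.comp_apply] at this
    rw [← hcl]; exact this
  have hg'z' : g' z' = x' := by
    have := congr($(hσ1) η)
    simp only [Scheme.Hom.comp_apply] at this
    rw [← hhη]; exact this
  have e1 := fibP_baseChange hP f g g' (h ≫ f) hc z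
  have e2 := fibP_baseChange hP f g g' (h ≫ f) hc z'
  rw [hg'z] at e1
  rw [hg'z'] at e2
  have hz1 : (g z).asIdeal = maximalIdeal V := by rw [hgz]; rfl
  have hz2 : (g z').asIdeal = ⊥ := by rw [hgz']; exact hη
  exact e2.mp (fibP_generizes_over_dvr hP hstep V g z z' hzz' hz1 hz2 (e1.mpr hS))

/-- Noetherian affine case. -/
theorem isOpen_fibP_spec (hP : IsLocProp P) (hstep : RingStep P)
    (hlc : ∀ ⦃X S : Scheme.{u}⦄ (f : X ⟶ S), LocallyOfFinitePresentation f →
      IsLocallyConstructible {x : X | FibP P f x})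
    {A₀ B₀ : CommRingCat.{u}} (φ₀ : A₀ ⟶ B₀) [IsNoetherianRing A₀]
    (hfp : φ₀.hom.FinitePresentation) (hfl : φ₀.hom.Flat) :
    IsOpen {x : Spec B₀ | FibP P (Spec.map φ₀) x} := by
  haveI hlfp : LocallyOfFinitePresentation (Spec.map φ₀) := by
    rw [HasRingHomProperty.Spec_iff (P := @LocallyOfFinitePresentation)]
    exact hfp
  haveI hflat : Flat (Spec.map φ₀) := by
    rw [HasRingHomProperty.Spec_iff (P := @Flat)]
    exact hfl
  haveI hlft : LocallyOfFiniteType (Spec.map φ₀) := inferInstance
  haveI : IsLocallyNoetherian (Spec B₀) := LocallyOfFiniteType.isLocallyNoetherian (Spec.map φ₀)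
  have hc : IsConstructible {x : Spec B₀ | FibP P (Spec.map φ₀) x} :=
    (hlc (Spec.map φ₀) hlfp).isConstructible
  refine PrimeSpectrum.isOpen_of_stableUnderGeneralization_of_isConstructible (R := B₀) ?_ hc
  intro x x' hsp hx
  exact fibP_generizes_noeth hP hstep (Spec.map φ₀) x x' hsp hx

/-- affine source and target. -/
theorem isOpen_fibP_of_isAffine (hP : IsLocProp P) (hstep : RingStep P)
    (hlc : ∀ ⦃X S : Scheme.{u}⦄ (f : X ⟶ S), LocallyOfFinitePresentation f →
      IsLocallyConstructible {x : X | FibP P f x})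
    {X S : Scheme.{u}} (f : X ⟶ S) [IsAffine X] [IsAffine S]
    [Flat f] [LocallyOfFinitePresentation f] :
    IsOpen {x : X | FibP P f x} := by
  have hφ : f.appTop.hom.FinitePresentation :=
    (HasRingHomProperty.iff_of_isAffine (P := @LocallyOfFinitePresentation)).mp inferInstance
  have hfl : f.appTop.hom.Flat :=
    (HasRingHomProperty.iff_of_isAffine (P := @Flat)).mp inferInstance
  obtain ⟨A₀, B₀, φ₀, α, β, hN, hfp, hflat, hpb⟩ := exists_isPullback_flat_noeth f.appTop hφ hfl
  have hsq : IsPullback X.isoSpec.hom f (Spec.map f.appTop) S.isoSpec.hom :=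
    IsPullback.of_horiz_isIso ⟨Scheme.isoSpec_hom_naturality f⟩
  have hpb' := hsq.paste_horiz hpb
  haveI hft : LocallyOfFiniteType (Spec.map φ₀) := by
    rw [HasRingHomProperty.Spec_iff (P := @LocallyOfFiniteType)]
    exact RingHom.FiniteType.of_finitePresentation hfp
  have hopen := isOpen_fibP_spec hP hstep hlc φ₀ hfp hflat
  have hE : {x : X | FibP P f x} =
      (X.isoSpec.hom ≫ Spec.map β) ⁻¹' {x | FibP P (Spec.map φ₀) x} := by
    ext x
    exact fibP_baseChange hP (Spec.map φ₀) f _ _ hpb' x
  rw [hE]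
  exact hopen.preimage (X.isoSpec.hom ≫ Spec.map β).continuous

/-- **EGA IV 12.1.6 pattern**: a fibrewise property which is locally constructible and generizes
over DVRs is open for flat morphisms locally of finite presentation. -/
theorem isOpen_fibP (hP : IsLocProp P) (hstep : RingStep P)
    (hlc : ∀ ⦃X S : Scheme.{u}⦄ (f : X ⟶ S), LocallyOfFinitePresentation f →
      IsLocallyConstructible {x : X | FibP P f x})
    {X S : Scheme.{u}} (f : X ⟶ S) [Flat f] [LocallyOfFinitePresentation f] :
    IsOpen {x : X | FibP P f x} := by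
  rw [isOpen_iff_forall_mem_open]
  intro x hx
  obtain ⟨V, hV, hxV⟩ : ∃ V : S.Opens, IsAffineOpen V ∧ f x ∈ V := by
    obtain ⟨_, ⟨V, hV, rfl⟩, hxV, -⟩ := S.isBasis_affineOpens.exists_subset_of_mem_open
      (Set.mem_univ (f x)) isOpen_univ
    exact ⟨V, hV, hxV⟩
  obtain ⟨U, hU, hxU, hUV⟩ : ∃ U : X.Opens, IsAffineOpen U ∧ x ∈ U ∧ U ≤ f ⁻¹ᵁ V := by
    obtain ⟨_, ⟨U, hU, rfl⟩, hxU, hUV⟩ := X.isBasis_affineOpens.exists_subset_of_mem_open
      (show x ∈ ((f ⁻¹ᵁ V : X.Opens) : Set X) from hxV) (f ⁻¹ᵁ V).isOpen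
    exact ⟨U, hU, hxU, hUV⟩
  haveI : IsAffine (U : Scheme.{u}) := hU
  haveI : IsAffine (V : Scheme.{u}) := hV
  haveI : Flat (f.resLE V U hUV) := inferInstance
  have hopen := isOpen_fibP_of_isAffine hP hstep hlc (f.resLE V U hUV)
  have hlft : LocallyOfFiniteType f := inferInstance
  have hpbV : IsPullback (𝟙 (U : Scheme.{u})) (f.resLE V U hUV) (f.resLE V U hUV ≫ V.ι) V.ι :=
    IsPullback.of_horiz_isIso_mono ⟨by simp⟩
  haveI hlft' : LocallyOfFiniteType (f.resLE V U hUV ≫ V.ι) := inferInstance
  have hE : {u : (U : Scheme.{u}) | FibP P (f.resLE V U hUV) u} =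
      {u : (U : Scheme.{u}) | FibP P f (U.ι u)} := by
    ext u
    simp only [Set.mem_ofPred_eq]
    rw [fibP_baseChange hP _ _ _ _ hpbV u, Scheme.Hom.resLE_comp_ι]
    exact fibP_openImm hP U.ι f u
  rw [hE] at hopen
  refine ⟨U.ι '' {u : (U : Scheme.{u}) | FibP P f (U.ι u)}, ?_,
    U.ι.isOpenEmbedding.isOpenMap _ hopen, ⟨⟨x, hxU⟩, hx, rfl⟩⟩
  rintro _ ⟨u, hu, rfl⟩
  exact hu

/-- variant on the flat locus: for `f` locally of finite presentation, the set of points where
`f` is flat and the fibre has `P` is open. -/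
theorem isOpen_flat_and_fibP (hP : IsLocProp P) (hstep : RingStep P)
    (hlc : ∀ ⦃X S : Scheme.{u}⦄ (f : X ⟶ S), LocallyOfFinitePresentation f →
      IsLocallyConstructible {x : X | FibP P f x})
    (hflatOpen : ∀ ⦃X S : Scheme.{u}⦄ (f : X ⟶ S), LocallyOfFinitePresentation f →
      IsOpen {x : X | (f.stalkMap x).hom.Flat})
    {X S : Scheme.{u}} (f : X ⟶ S) [LocallyOfFinitePresentation f] :
    IsOpen {x : X | (f.stalkMap x).hom.Flat ∧ FibP P f x} := by
  let W : X.Opens := ⟨{x : X | (f.stalkMap x).hom.Flat}, hflatOpen f inferInstance⟩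
  haveI hflat : Flat (W.ι ≫ f) := by
    rw [Flat.iff_flat_stalkMap]
    intro w
    have e : ((W.ι ≫ f).stalkMap w).hom =
        (W.ι.stalkMap w).hom.comp (f.stalkMap (W.ι w)).hom :=
      congrArg CommRingCat.Hom.hom (Scheme.Hom.stalkMap_comp W.ι f w)
    rw [e]
    refine RingHom.Flat.comp (w.2 : (f.stalkMap (W.ι w)).hom.Flat) ?_
    exact RingHom.Flat.of_bijective (ConcreteCategory.bijective_of_isIso (W.ι.stalkMap w))
  have hopen := isOpen_fibP hP hstep hlc (W.ι ≫ f)
  have hset : {x : X | (f.stalkMap x).hom.Flat ∧ FibP P f x} =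
      W.ι '' {w : (W : Scheme.{u}) | FibP P (W.ι ≫ f) w} := by
    ext x
    constructor
    · rintro ⟨h1, h2⟩
      refine ⟨⟨x, h1⟩, ?_, rfl⟩
      rw [Set.mem_ofPred_eq, fibP_openImm hP W.ι f ⟨x, h1⟩]
      exact h2
    · rintro ⟨w, hw, rfl⟩
      refine ⟨w.2, ?_⟩
      rw [Set.mem_ofPred_eq, fibP_openImm hP W.ι f w] at hw
      exact hw
  rw [hset]
  exact W.ι.isOpenEmbedding.isOpenMap _ hopen

end Groth.Agent.H58.SkOpen
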