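import Groth.Agent.H58.SkOpen.DVRSpec
import Groth.Agent.H50.DVRSp1

/-!
# `(S_k)` of the fibres of a flat morphism is stable under generization (locally Noetherian source)
(helper58; for S2551)
-/

set_option autoImplicit false
set_option linter.unusedSectionVars false
set_option linter.style.haveILetI false
universe u

open CategoryTheory CategoryTheory.Limits AlgebraicGeometry IsLocalRing
open Groth.Agent.H99.FibLocProp Groth.Agent.H99.SkField

namespace Groth.Agent.H58.SkOpen

/-- EGA IV 12.1.1-type statement: `(S_k)` of the fibre local rings generizes, for a flat morphism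
locally of finite type with locally Noetherian source. -/
theorem fibP_hasSk_generizes_noeth {X S : Scheme.{u}} (f : X ⟶ S) [Flat f] [LocallyOfFiniteType f]
    [IsLocallyNoetherian X] (k : ℕ) (x x' : X) (hsp : x' ⤳ x)
    (hS : FibP (HasSkSelf k) f x) : FibP (HasSkSelf k) f x' := by
  have hP := isLocProp_hasSkSelf.{u} k
  obtain ⟨V, _, _, _, h, ξ, hcomm, hcl, hξ⟩ :=
    Groth.Agent.H50.DVRSp.exists_dvr_of_specializes (𝟙 X) x' x (by simpa using hsp)
  let K := FractionRing V
  let T : Scheme.{u} := Spec (CommRingCat.of V)
  let η : T := (Spec.map (CommRingCat.ofHom (algebraMap V K))) (closedPoint K)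
  have hη : η.asIdeal = ⊥ := by
    change ((closedPoint K).asIdeal).comap (algebraMap V K) = ⊥
    have h1 : (closedPoint K).asIdeal = ⊥ := by
      change maximalIdeal K = ⊥
      exact IsLocalRing.isField_iff_maximalIdeal_eq.mp (Field.toIsField K)
    rw [h1, ← RingHom.ker_eq_comap_bot]
    exact (RingHom.injective_iff_ker_eq_bot _).mp (IsFractionRing.injective V K)
  have hhη : h η = x' := by
    have := congr($(hcomm) (closedPoint K))
    simp only [Scheme.Hom.comp_apply, Category.comp_id] at this
    rw [← hξ]
    exact this.symm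
  -- the base change to the DVR
  let g' : pullback f (h ≫ f) ⟶ X := pullback.fst f (h ≫ f)
  let g : pullback f (h ≫ f) ⟶ T := pullback.snd f (h ≫ f)
  have hc : IsPullback g' g f (h ≫ f) := IsPullback.of_hasPullback _ _
  let σ : T ⟶ pullback f (h ≫ f) := pullback.lift h (𝟙 T) (by simp)
  have hσ1 : σ ≫ g' = h := pullback.lift_fst _ _ _
  have hσ2 : σ ≫ g = 𝟙 T := pullback.lift_snd _ _ _
  let z := σ (closedPoint V)
  let z' := σ η
  have hspec : η ⤳ (closedPoint V : T) :=
    (PrimeSpectrum.le_iff_specializes (η : PrimeSpectrum V) (closedPoint V)).mp (by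
      change η.asIdeal ≤ (closedPoint V).asIdeal
      rw [hη]
      exact bot_le)
  have hzz' : z' ⤳ z := hspec.map σ.continuous
  have hgz : g z = closedPoint V := by
    have := congr($(hσ2) (closedPoint V))
    simpa using this
  have hgz' : g z' = η := by
    have := congr($(hσ2) η)
    simpa using this
  have hg'z : g' z = x := by
    have := congr($(hσ1) (closedPoint V))
    simp only [Scheme.Hom.comp_apply] at this
    rw [← hcl]; exact this
  have hg'z' : g' z' = x' := by
    have := congr($(hσ1) η)
    simp only [Scheme.Hom.comp_apply] at this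
    rw [← hhη]; exact this
  have e1 := fibP_baseChange hP f g g' (h ≫ f) hc z
  have e2 := fibP_baseChange hP f g g' (h ≫ f) hc z'
  rw [hg'z] at e1
  rw [hg'z'] at e2
  have hz1 : (g z).asIdeal = maximalIdeal V := by rw [hgz]; rfl
  have hz2 : (g z').asIdeal = ⊥ := by rw [hgz']; exact hη
  have hSz : FibP (HasSkSelf k) g z := @Iff.mpr _ _ e1 @hS
  have key : FibP (HasSkSelf k) g z' :=
    @fibP_hasSk_generizes_over_dvr V _ _ _ _ g _ _ k z z' hzz' hz1 hz2 @hSz
  exact @Iff.mp _ _ e2 @key

end Groth.Agent.H58.SkOpen
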