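import Mathlib
import Groth.Agent.H58.SkOpen.General
import Groth.Agent.H58.SkOpen.Codepth
import Groth.Agent.H99.CodepthFib
import Groth.Agent.S0386

/-!
# S5922: openness of the locus where `f` is flat and the fibre has codepth `≤ n` (helper58)
-/

set_option autoImplicit false
set_option linter.style.haveILetI false
set_option linter.unusedSectionVars false
universe u

open CategoryTheory AlgebraicGeometry

namespace Groth.Agent.H58.SkOpen

open Groth.Agent.H99.FibLocProp Groth.Agent.H99.CodepthProp

theorem fibP_codepthLE_iff (n : ℕ) {X Y : Scheme.{u}} (f : X ⟶ Y) [LocallyOfFinitePresentation f]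
    (x : X) :
    FibP (CodepthLE n) f x ↔
      ringKrullDim ((f.fiber (f.base x)).presheaf.stalk (f.asFiber x)) ≤
        ((LocCoh.depth ((f.fiber (f.base x)).presheaf.stalk (f.asFiber x))
          ((f.fiber (f.base x)).presheaf.stalk (f.asFiber x)) : ℕ∞) : WithBot ℕ∞) + n := by
  haveI : LocallyOfFiniteType f := inferInstance
  haveI := Groth.Agent.H49.CMChart.isLocallyNoetherian_fiber f (f x)
  constructor
  · intro h
    exact h
  · intro h _ _
    exact h

theorem main5922 {X Y : Scheme.{u}} (f : X ⟶ Y) [LocallyOfFinitePresentation f] (n : ℕ) :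
    IsOpen {x : X | (f.stalkMap x).hom.Flat ∧
      ringKrullDim ((f.fiber (f.base x)).presheaf.stalk (f.asFiber x)) ≤
        ((LocCoh.depth ((f.fiber (f.base x)).presheaf.stalk (f.asFiber x))
          ((f.fiber (f.base x)).presheaf.stalk (f.asFiber x)) : ℕ∞) : WithBot ℕ∞) + n} := by
  have h := isOpen_flat_and_fibP (isLocProp_codepthLE n) (ringStep_codepthLE n)
    (fun _ _ g hg => Groth.Agent.H99.CodepthFib.isLocallyConstructible_fibCodepthLE n g)
    (fun _ _ g hg => Groth.Agent.S0386.result g) f
  convert h using 2
  ext x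
  simp only [Set.mem_ofPred_eq]
  rw [fibP_codepthLE_iff]

end Groth.Agent.H58.SkOpen
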