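import Groth.Agent.H58.SkOpen.RedOpen
import Groth.Agent.H25.GeomRegSmooth
import Groth.Agent.H25.GeomRegAt
import Groth.Agent.H49.FibreDim
import Groth.Agent.H49.CMChart

/-!
# Geometric normality tested on finite extensions (helper58; for S5923, S5933)

For `q : Y ⟶ Spec κ` locally of finite type and `y : Y`: if for every *finite* extension `K/κ` the
local rings of `Y_K` at the points above `y` are normal domains, then the geometric `(R_1)`
condition `PrRk 1 q y` holds.
-/

set_option autoImplicit false
set_option backward.isDefEq.respectTransparency.types false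
set_option linter.unusedSectionVars false
set_option linter.style.haveILetI false
universe u

open CategoryTheory CategoryTheory.Limits AlgebraicGeometry IsLocalRing Topology
open Groth.Agent.H15.StalkLoc Groth.Agent.H99.RkTop Groth.Agent.H99.RkField
  Groth.Agent.H99.RkGen Groth.Agent.H49.SmoothFibreConstr Groth.Agent.H99.FieldDim

namespace Groth.Agent.H58.SkOpen

/-- a normal Noetherian local domain of dimension at most one is regular. -/
theorem isRegularLocalRing_of_normal_of_dim_le_one (R : Type u) [CommRing R] [IsNoetherianRing R]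
    [IsLocalRing R] [IsDomain R] [IsIntegrallyClosed R] (hd : ringKrullDim R ≤ 1) :
    IsRegularLocalRing R := by
  have h := (Groth.Agent.H99.NormFib.isNormal_local_iff R).mp ⟨inferInstance, inferInstance⟩
  have hht : (maximalIdeal R).height ≤ ((1 : ℕ) : ℕ∞) := by
    rw [← IsLocalRing.maximalIdeal_height_eq_ringKrullDim] at hd
    exact_mod_cast hd
  haveI := h.1 (maximalIdeal R) hht
  exact IsRegularLocalRing.of_ringEquiv (Groth.Agent.H14.localizationMaximalIdealEquiv R).symm

section Field

variable {κ : Type u} [Field κ] {Y : Scheme.{u}} (q : Y ⟶ Spec (CommRingCat.of κ))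
  [LocallyOfFiniteType q]

/-- the stalk of a generization of a point with normal local ring is a normal domain. -/
theorem normal_of_specializes {W : Scheme.{u}} {x x' : W} (h : x' ⤳ x)
    [IsDomain (W.presheaf.stalk x)] [IsIntegrallyClosed (W.presheaf.stalk x)] :
    IsDomain (W.presheaf.stalk x') ∧ IsIntegrallyClosed (W.presheaf.stalk x') := by
  letI := (W.presheaf.stalkSpecializes h).hom.toAlgebra
  haveI := isLocalization_stalkSpecializes h
  refine ⟨IsLocalization.isDomain_of_le_nonZeroDivisors (W.presheaf.stalk x')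
    (genPrime h).primeCompl_le_nonZeroDivisors, ?_⟩
  exact isIntegrallyClosed_of_isLocalization _ (genPrime h).primeCompl
    (genPrime h).primeCompl_le_nonZeroDivisors

theorem prRk_one_of_finite_normal (y : Y)
    (H : ∀ (K : Type u) [Field K] [Algebra κ K], Module.Finite κ K →
      ∀ x' : ↥(FBase.bc q K), (FBase.bcπ q K).base x' = y →
        IsDomain ((FBase.bc q K).presheaf.stalk x') ∧
          IsIntegrallyClosed ((FBase.bc q K).presheaf.stalk x')) :
    PrRk 1 q y := by
  haveI : IsLocallyNoetherian Y := isLocallyNoetherian q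
  haveI : IsLocallyNoetherian (Spec (CommRingCat.of κ)) := inferInstance
  haveI : LocallyOfFinitePresentation q := inferInstance
  intro ξ hξ _ hns
  suffices hdim : ((2 : ℕ) : WithBot ℕ∞) ≤ ringKrullDim (Y.presheaf.stalk ξ) by
    obtain ⟨w, hw, hle⟩ := (field_exists_iff q ξ 2).mpr hdim
    exact ⟨w, hw, Subsingleton.elim _ _, hle⟩
  by_contra hdim
  apply hns
  letI : Y.Over (Spec (CommRingCat.of κ)) := ⟨q⟩
  haveI : Flat q := inferInstance
  haveI : LocallyOfFinitePresentation (Y ↘ Spec (CommRingCat.of κ)) :=
    (inferInstance : LocallyOfFinitePresentation q)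
  rw [fibSm_iff_mem_smoothLocus]
  refine (Groth.Agent.H25.GeomRegSmooth.isGeomRegularAt_iff_mem_smoothLocus κ Y ξ).mp ?_
  refine Groth.Agent.H25.GeomRegAt.isGeomRegularAt_of_purelyInseparable κ Y ξ ?_
  intro k' _ _ _ _ x'' hx''
  -- the finite projection `π : Y_{k'} ⟶ Y`
  haveI hfin : IsFinite (Spec.map (CommRingCat.ofHom (algebraMap κ k'))) := by
    rw [IsFinite.SpecMap_iff]
    exact RingHom.finite_algebraMap.mpr inferInstance
  haveI hπfin : IsFinite (FBase.bcπ q k') :=
    inferInstanceAs (IsFinite (pullback.fst q (Spec.map (CommRingCat.ofHom (algebraMap κ k')))))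
  haveI : LocallyOfFiniteType (FBase.bcStr q k') :=
    inferInstanceAs (LocallyOfFiniteType
      (pullback.snd q (Spec.map (CommRingCat.ofHom (algebraMap κ k')))))
  haveI : IsLocallyNoetherian (FBase.bc q k') :=
    LocallyOfFiniteType.isLocallyNoetherian (FBase.bcStr q k')
  obtain ⟨z'', rfl⟩ : ∃ z'' : ↥(FBase.bc q k'), z'' = x'' := ⟨x'', rfl⟩
  have hx : (FBase.bcπ q k') z'' = ξ := hx''
  -- a specialization of `z''` above `y`
  have hcl : IsClosed ((FBase.bcπ q k') '' closure {z''}) :=
    (FBase.bcπ q k').isClosedMap _ isClosed_closure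
  have hy : y ∈ (FBase.bcπ q k') '' closure {z''} := by
    have h1 : ξ ∈ (FBase.bcπ q k') '' closure {z''} := ⟨z'', subset_closure rfl, hx⟩
    exact (hcl.closure_subset_iff.mpr (Set.singleton_subset_iff.mpr h1)) hξ.mem_closure
  obtain ⟨z', hz'cl, hz'y⟩ := hy
  have hsp : z'' ⤳ z' := specializes_iff_mem_closure.mpr hz'cl
  obtain ⟨hD, hI⟩ := H k' inferInstance z' hz'y
  haveI := hD
  haveI := hI
  obtain ⟨hD'', hI''⟩ := normal_of_specializes hsp
  haveI := hD''
  haveI := hI''
  -- dimension
  have h1 := Groth.Agent.H49.FibreDim.ringKrullDim_stalk_le_add_fibre (FBase.bcπ q k') z''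
  have h2 := Groth.Agent.H49.CMChart.ringKrullDim_fiber_stalk_eq_zero (FBase.bcπ q k') z''
    ((FBase.bcπ q k').quasiFiniteAt z'')
  rw [h2, add_zero] at h1
  have h3 : ringKrullDim ((FBase.bc q k').presheaf.stalk z'') ≤ 1 := by
    subst hx
    obtain ⟨d, hd⟩ := Groth.Agent.H72.FlatCM.exists_ringKrullDim_eq_natCast
      (Y.presheaf.stalk ((FBase.bcπ q k') z''))
    rw [hd] at h1 hdim
    have h4 : ¬ 2 ≤ d := fun h => hdim (by exact_mod_cast h)
    have h5 : d ≤ 1 := by omega
    refine h1.trans ?_
    exact_mod_cast h5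
  exact isRegularLocalRing_of_normal_of_dim_le_one ((FBase.bc q k').presheaf.stalk z'') h3

end Field

end Groth.Agent.H58.SkOpen
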