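import Groth.Agent.H58.SkOpen.NormFinite

/-!
# Openness of the locus of geometrically normal fibres (EGA IV 12.1.6 (iv), 12.2.4 (iv); helper58;
S5923, S5933)
-/

set_option autoImplicit false
set_option backward.isDefEq.respectTransparency.types false
set_option linter.unusedSectionVars false
set_option linter.style.haveILetI false
universe u

open CategoryTheory CategoryTheory.Limits AlgebraicGeometry IsLocalRing Topology
open Groth.Agent.H99.RkTop Groth.Agent.H99.RkMain Groth.Agent.H99.FibLocProp
  Groth.Agent.H99.SkField Groth.Agent.H99.SkMain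

namespace Groth.Agent.H58.SkOpen

/-- geometric normality at `x` tested on finite extensions of the residue field is `RkSk 1`. -/
theorem geomNormalFinite_iff_rkSk {X Y : Scheme.{u}} (f : X ⟶ Y) [LocallyOfFiniteType f] (x : X) :
    (∀ (K : Type u) [Field K] [Algebra (IsLocalRing.ResidueField (Y.presheaf.stalk (f.base x))) K],
        Module.Finite (IsLocalRing.ResidueField (Y.presheaf.stalk (f.base x))) K →
        ∀ x' : ↥(FBase.bc (f.fiberToSpecResidueField (f.base x)) K),
          (FBase.bcπ (f.fiberToSpecResidueField (f.base x)) K).base x' = f.asFiber x →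
          IsDomain ((FBase.bc (f.fiberToSpecResidueField (f.base x)) K).presheaf.stalk x') ∧
            IsIntegrallyClosed
              ((FBase.bc (f.fiberToSpecResidueField (f.base x)) K).presheaf.stalk x')) ↔
      RkSk 1 f x := by
  rw [rkSk_iff]
  constructor
  · intro H
    let κ := IsLocalRing.ResidueField (Y.presheaf.stalk (f.base x))
    let q : f.fiber (f.base x) ⟶ Spec (CommRingCat.of κ) := f.fiberToSpecResidueField (f.base x)
    haveI : LocallyOfFiniteType q :=
      inferInstanceAs (LocallyOfFiniteType (pullback.snd f (Y.fromSpecResidueField (f.base x))))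
    haveI : IsLocallyNoetherian (f.fiber (f.base x)) :=
      Groth.Agent.H49.CMChart.isLocallyNoetherian_fiber f (f.base x)
    have sq1 : IsPullback (f.fiberι (f.base x)) q f (Y.fromSpecResidueField (f.base x)) :=
      IsPullback.of_hasPullback _ _
    have e1 : PrRk 1 q (f.asFiber x) ↔ PrRk 1 f x := by
      have := prRk_baseChange f q (f.fiberι (f.base x)) (Y.fromSpecResidueField (f.base x)) sq1 1
        (f.asFiber x)
      rwa [Scheme.Hom.fiberι_asFiber] at this
    refine ⟨e1.mp (prRk_one_of_finite_normal q (f.asFiber x) H), ?_⟩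
    -- `(S_2)`
    have hlft : LocallyOfFiniteType (FBase.bcStr q κ) :=
      inferInstanceAs (LocallyOfFiniteType
        (pullback.snd q (Spec.map (CommRingCat.ofHom (algebraMap κ κ)))))
    haveI hN : IsLocallyNoetherian (FBase.bc q κ) :=
      LocallyOfFiniteType.isLocallyNoetherian (FBase.bcStr q κ)
    have sq2 : IsPullback (FBase.bcπ q κ) (FBase.bcStr q κ) q
        (Spec.map (CommRingCat.ofHom (algebraMap κ κ))) := IsPullback.of_hasPullback _ _
    obtain ⟨x', hx'⟩ : ∃ x' : ↥(FBase.bc q κ), (FBase.bcπ q κ).base x' = f.asFiber x := by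
      obtain ⟨pt⟩ : Nonempty ↥(Spec (CommRingCat.of κ)) := inferInstance
      obtain ⟨z, hz, -⟩ := Scheme.exists_preimage_of_isPullback sq2
        (f.asFiber x) pt (Subsingleton.elim _ _)
      exact ⟨z, hz⟩
    have h1 := stalk_iff_of_isPullback_field (isLocProp_hasSkSelf 2) κ κ (algebraMap κ κ) q
      (FBase.bcπ q κ) (FBase.bcStr q κ) sq2 (Or.inl inferInstance) x'
    rw [show (FBase.bcπ q κ) x' = f.asFiber x from hx'] at h1
    have h2 := ((Groth.Agent.H99.NormFib.isNormal_local_iff _).mp (H κ inferInstance x' hx')).2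
    exact h1.mpr (fun {_} => h2)
  · intro h K _ _ _ x' hx'
    exact (Groth.Agent.H99.NormFib.geomNormal_iff f x).mpr h K x' hx'

/-- S5923 -/
theorem main5923 {X Y : Scheme.{u}} (f : X ⟶ Y) [LocallyOfFinitePresentation f] :
    IsOpen {x : X | (f.stalkMap x).hom.Flat ∧
      ∀ (K : Type u) [Field K] [Algebra (IsLocalRing.ResidueField (Y.presheaf.stalk (f.base x))) K],
        Module.Finite (IsLocalRing.ResidueField (Y.presheaf.stalk (f.base x))) K →
        ∀ x' : ↥(FBase.bc (f.fiberToSpecResidueField (f.base x)) K),
          (FBase.bcπ (f.fiberToSpecResidueField (f.base x)) K).base x' = f.asFiber x →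
          IsDomain ((FBase.bc (f.fiberToSpecResidueField (f.base x)) K).presheaf.stalk x') ∧
            IsIntegrallyClosed
              ((FBase.bc (f.fiberToSpecResidueField (f.base x)) K).presheaf.stalk x')} := by
  haveI : LocallyOfFiniteType f := inferInstance
  have h := isOpen_flat_and_rkSk 1 f
  convert h using 1
  ext x
  exact and_congr Iff.rfl (geomNormalFinite_iff_rkSk f x)

end Groth.Agent.H58.SkOpen

namespace Groth.Agent.H58.SkOpen

/-- transport of the finite-extension normality condition along an equality of base points. -/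
theorem geomNormalFinite_fibre_iff {X Y : Scheme.{u}} (f : X ⟶ Y) [LocallyOfFiniteType f]
    (x₀ : X) (y : Y) (hy : f.base x₀ = y) (x : ↥(f.fiber y)) (hx : (f.fiberι y).base x = x₀) :
    (∀ (K : Type u) [Field K] [Algebra (IsLocalRing.ResidueField (Y.presheaf.stalk y)) K],
        Module.Finite (IsLocalRing.ResidueField (Y.presheaf.stalk y)) K →
        ∀ x' : ↥(FBase.bc (f.fiberToSpecResidueField y) K),
          (FBase.bcπ (f.fiberToSpecResidueField y) K).base x' = x →
          IsDomain ((FBase.bc (f.fiberToSpecResidueField y) K).presheaf.stalk x') ∧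
            IsIntegrallyClosed ((FBase.bc (f.fiberToSpecResidueField y) K).presheaf.stalk x')) ↔
      RkSk 1 f x₀ := by
  subst hy
  have hxe : x = f.asFiber x₀ := by
    apply (f.fiberι (f.base x₀)).isEmbedding.injective
    rw [hx]
    exact (f.fiberι_asFiber x₀).symm
  subst hxe
  exact geomNormalFinite_iff_rkSk f x₀

/-- S5933 -/
theorem main5933 {X Y : Scheme.{u}} (f : X ⟶ Y) [IsProper f] [Flat f]
    [LocallyOfFinitePresentation f] :
    IsOpen {y : Y | ∀ x : ↥(f.fiber y),
      (∀ (K : Type u) [Field K] [Algebra (IsLocalRing.ResidueField (Y.presheaf.stalk y)) K],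
        Module.Finite (IsLocalRing.ResidueField (Y.presheaf.stalk y)) K →
        ∀ x' : ↥(FBase.bc (f.fiberToSpecResidueField y) K),
          (FBase.bcπ (f.fiberToSpecResidueField y) K).base x' = x →
          IsDomain ((FBase.bc (f.fiberToSpecResidueField y) K).presheaf.stalk x') ∧
            IsIntegrallyClosed
              ((FBase.bc (f.fiberToSpecResidueField y) K).presheaf.stalk x'))} := by
  haveI : LocallyOfFiniteType f := inferInstance
  have hopen : IsOpen {x : X | RkSk 1 f x} := isOpen_rkSk 1 f
  have hcl : IsClosed (f '' {x : X | RkSk 1 f x}ᶜ) :=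
    f.isClosedMap _ hopen.isClosed_compl
  convert hcl.isOpen_compl using 1
  ext y
  simp only [Set.mem_ofPred_eq, Set.mem_compl_iff, Set.mem_image, not_exists, not_and]
  constructor
  · intro h x₀ hx₀ hfx₀
    apply hx₀
    refine (geomNormalFinite_fibre_iff f x₀ y hfx₀ (hfx₀ ▸ f.asFiber x₀) ?_).mp (h _)
    subst hfx₀
    exact f.fiberι_asFiber x₀
  · intro h x
    have hmap : f.base ((f.fiberι y).base x) = y := Groth.Agent.H48.CycFib.map_fiberι f y x
    refine (geomNormalFinite_fibre_iff f _ y hmap x rfl).mpr ?_
    by_contra hn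
    exact h _ hn hmap

end Groth.Agent.H58.SkOpen
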